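import Cfsg.Agent.UnipotentJordan.Commutant
import Cfsg.Agent.LinearElements.JordanModels

/-!
Nilpotent matrices are classified by the multiset of their block sizes; classes of elements of order
`p` in a subgroup of `GL` in which conjugacy is that of `GL`.
-/

set_option autoImplicit false

namespace CfsgLib.UnipotentJordan

open Finset Matrix Module
open CfsgLib.LinearElements

variable {K : Type*} [Field K]

theorem exists_intertwine {V V' : Type*} [AddCommGroup V] [Module K V] [AddCommGroup V'] [Module K V']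
    {N : Module.End K V} {N' : Module.End K V'} (C : ChainBasis N ⊤) (C' : ChainBasis N' ⊤)
    (h : ∀ s, #{i | C.sz i = s} = #{i | C'.sz i = s}) :
    ∃ e : V ≃ₗ[K] V', ∀ v, e (N v) = N' (e v) := by
  have hfib : ∀ s, Nonempty ({i // C.sz i = s} ≃ {i // C'.sz i = s}) := fun s =>
    ⟨Fintype.equivOfCardEq (by rw [Fintype.card_subtype, Fintype.card_subtype]; exact h s)⟩
  let π : Fin C.L ≃ Fin C'.L := Equiv.ofFiberEquiv fun s => (hfib s).some
  have hπ : ∀ i, C'.sz (π i) = C.sz i := fun i => Equiv.ofFiberEquiv_map _ i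
  let b := Basis.mk C.indep (by rw [C.span_eq])
  let b' := Basis.mk C'.indep (by rw [C'.span_eq])
  let idx : (Σ i, Fin (C.sz i)) ≃ Σ i, Fin (C'.sz i) :=
    Equiv.sigmaCongr π fun i => finCongr (hπ i).symm
  refine ⟨b.equiv b' idx, fun v => ?_⟩
  suffices H : ((b.equiv b' idx).toLinearMap ∘ₗ N) = N' ∘ₗ (b.equiv b' idx).toLinearMap from
    LinearMap.congr_fun H v
  refine b.ext fun ⟨i, j⟩ => ?_
  have hb : ∀ i (j : Fin (C.sz i)), b ⟨i, j⟩ = (N ^ (j : ℕ)) (C.gen i) := fun i j => Basis.mk_apply _ _ _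
  have hmap : ∀ i (j : Fin (C.sz i)), b.equiv b' idx ((N ^ (j : ℕ)) (C.gen i)) =
      (N' ^ (j : ℕ)) (C'.gen (π i)) := by
    intro i j
    rw [← hb, Basis.equiv_apply, Basis.mk_apply]
    rfl
  simp only [LinearMap.comp_apply, LinearEquiv.coe_coe]
  rw [hb, hmap, ← Module.End.mul_apply N, ← Module.End.mul_apply N', ← pow_succ', ← pow_succ']
  by_cases hj : (j : ℕ) + 1 < C.sz i
  · exact hmap i ⟨(j : ℕ) + 1, hj⟩
  · rw [show (j : ℕ) + 1 = C.sz i by omega, C.kill, map_zero, ← hπ i, C'.kill]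

theorem rankOn_top {ι : Type*} [Fintype ι] [DecidableEq ι] (A : Matrix ι ι K) (k : ℕ) :
    rankOn (Matrix.toLin' A) ⊤ k = (A ^ k).rank := by
  rw [rankOn, Submodule.map_top, show Matrix.toLin' A ^ k = Matrix.toLin' (A ^ k) from
    (map_pow Matrix.toLinAlgEquiv' A k).symm]
  rfl

theorem eq_zero_of_rank {m n : Type*} [Fintype n] {A : Matrix m n K} (h : A.rank = 0) : A = 0 := by
  classical
  rw [Matrix.rank, Submodule.finrank_eq_zero, LinearMap.range_eq_bot] at h
  exact Matrix.toLin'.injective (h.trans (map_zero Matrix.toLin').symm)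

section Similar

variable {ι : Type*} [Fintype ι] [DecidableEq ι]

theorem isConj_of_rank {A B : Matrix ι ι K} (hA : IsNilpotent A) (hB : IsNilpotent B)
    (h : ∀ k, (A ^ k).rank = (B ^ k).rank) : IsConj A B := by
  obtain ⟨a, ha⟩ := hA
  obtain ⟨b, hb⟩ := hB
  have hpow : ∀ (M : Matrix ι ι K) n, M ^ n = 0 → ((⊤ : Submodule K (ι → K)).map (Matrix.toLin' M ^ n)) = ⊥ := by
    intro M n hn
    rw [show Matrix.toLin' M ^ n = Matrix.toLinAlgEquiv' (M ^ n) from (map_pow Matrix.toLinAlgEquiv' M n).symm, hn]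
    simp
  obtain ⟨C⟩ := exists_chainBasis (N := Matrix.toLin' A) (W := ⊤) le_top (hpow A a ha)
  obtain ⟨C'⟩ := exists_chainBasis (N := Matrix.toLin' B) (W := ⊤) le_top (hpow B b hb)
  obtain ⟨e, he⟩ := exists_intertwine C C' fun s => by
    rcases Nat.eq_zero_or_pos s with rfl | hs
    · simp [fun i => Nat.one_le_iff_ne_zero.1 (C.sz_pos i), fun i => Nat.one_le_iff_ne_zero.1 (C'.sz_pos i)]
    · rw [← C.blockCount_eq hs, ← C'.blockCount_eq hs]
      simp only [blockCount, blocksOn, rankOn_top, h]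
  have hu : IsUnit (LinearMap.toMatrix' e.toLinearMap) :=
    isUnit_iff_exists.2 ⟨LinearMap.toMatrix' e.symm.toLinearMap, by
      rw [← LinearMap.toMatrix'_comp, e.comp_symm, LinearMap.toMatrix'_id], by
      rw [← LinearMap.toMatrix'_comp, e.symm_comp, LinearMap.toMatrix'_id]⟩
  refine ⟨hu.unit, ?_⟩
  show LinearMap.toMatrix' e.toLinearMap * A = B * LinearMap.toMatrix' e.toLinearMap
  apply Matrix.toLin'.injective
  refine LinearMap.ext fun v => ?_
  rw [Matrix.toLin'_mul, Matrix.toLin'_mul, Matrix.toLin'_toMatrix']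
  exact he v

theorem rank_pow_eq_of_isConj {A B : Matrix ι ι K} (h : IsConj A B) (k : ℕ) :
    (A ^ k).rank = (B ^ k).rank := by
  obtain ⟨c, hc⟩ := h.pow k
  have hc' : (c : Matrix ι ι K) * A ^ k = B ^ k * c := hc
  have hdet := (Matrix.isUnit_iff_isUnit_det _).1 c.isUnit
  calc (A ^ k).rank = ((c : Matrix ι ι K) * A ^ k).rank := (Matrix.rank_mul_eq_right_of_isUnit_det _ _ hdet).symm
    _ = (B ^ k * (c : Matrix ι ι K)).rank := by rw [hc']
    _ = (B ^ k).rank := Matrix.rank_mul_eq_left_of_isUnit_det _ _ hdet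

theorem isConj_add_iff (z : K) (A B : Matrix ι ι K) :
    IsConj (Matrix.scalar ι z + A) (Matrix.scalar ι z + B) ↔ IsConj A B := by
  refine exists_congr fun c => ?_
  simp only [SemiconjBy, mul_add, add_mul,
    (Matrix.scalar_commute z (fun r => Commute.all z r) (c : Matrix ι ι K)).eq, add_right_inj]

theorem isConj_one_add_iff (A B : Matrix ι ι K) : IsConj (1 + A) (1 + B) ↔ IsConj A B := by
  simpa using isConj_add_iff (1 : K) A B

end Similar

variable {t : ℕ} {d : Fin t → ℕ}

theorem toLin_shiftMat : Matrix.toLin' (shiftMat d K) = blockShift d K := by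
  refine LinearMap.ext fun v => funext fun p => ?_
  rw [Matrix.toLin'_apply, Matrix.mulVec, dotProduct]
  obtain ⟨l, i⟩ := p
  show _ = if h : (i : ℕ) = 0 then 0 else v ⟨l, ⟨i - 1, by omega⟩⟩
  split_ifs with h
  · refine Finset.sum_eq_zero fun x _ => ?_
    simp [shiftMat, h]
  · rw [Finset.sum_eq_single (⟨l, ⟨i - 1, by omega⟩⟩ : JI d)]
    · rw [shiftMat, Matrix.of_apply, if_pos ⟨rfl, by simp; omega⟩, one_mul]
    · rintro ⟨m, x⟩ _ hx
      rw [shiftMat, Matrix.of_apply, if_neg, zero_mul]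
      rintro ⟨hm, hxv⟩
      simp only at hm hxv
      subst hm
      exact hx (by simp [Fin.ext_iff]; omega)
    · simp

theorem rank_shiftMat_pow (hd : ∀ k, 1 ≤ d k) (k : ℕ) :
    ((shiftMat d K) ^ k).rank = ∑ i, (d i - k) := by
  rw [← rankOn_top, toLin_shiftMat]
  exact (blockShiftChain d hd).rankOn_eq k

theorem shiftMat_pow_eq_zero (hd : ∀ k, 1 ≤ d k) {P : ℕ} (hP : ∀ k, d k ≤ P) :
    (shiftMat d K) ^ P = 0 := by
  have h := (blockShiftChain (F := K) d hd).pow_eq_zero hP
  rw [← toLin_shiftMat] at h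
  apply Matrix.toLinAlgEquiv'.injective
  rw [map_pow, map_zero]
  exact h

theorem isNilpotent_shiftMat (hd : ∀ k, 1 ≤ d k) : IsNilpotent (shiftMat d K) :=
  ⟨_, shiftMat_pow_eq_zero hd fun k => Finset.le_sup (f := d) (Finset.mem_univ k)⟩

theorem multiset_eq_of_rank {t' : ℕ} {d' : Fin t' → ℕ} (hd : ∀ k, 1 ≤ d k) (hd' : ∀ k, 1 ≤ d' k)
    (h : ∀ k, ∑ i, (d i - k) = ∑ i, (d' i - k)) :
    (Finset.univ : Finset (Fin t)).val.map d = (Finset.univ : Finset (Fin t')).val.map d' := by
  let C := blockShiftChain (F := ℚ) d hd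
  let C' := blockShiftChain (F := ℚ) d' hd'
  show C.sizes = C'.sizes
  refine Multiset.ext.2 fun s => ?_
  rw [C.count_sizes, C'.count_sizes]
  rcases Nat.eq_zero_or_pos s with rfl | hs
  · simp [fun i => Nat.one_le_iff_ne_zero.1 (C.sz_pos i), fun i => Nat.one_le_iff_ne_zero.1 (C'.sz_pos i)]
  · rw [← C.blockCount_eq hs, ← C'.blockCount_eq hs]
    simp only [blockCount, blocksOn, ChainBasis.rankOn_eq C, ChainBasis.rankOn_eq C']
    show (∑ i, (d i - (s - 1))) - (∑ i, (d i - (s - 1 + 1))) -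
      ((∑ i, (d i - s)) - ∑ i, (d i - (s + 1))) = _
    simp only [h]
    rfl

theorem rank_reindex_pow {ι κ : Type*} [Fintype ι] [DecidableEq ι] [Fintype κ] [DecidableEq κ]
    (e : ι ≃ κ) (A : Matrix ι ι K) (k : ℕ) : ((Matrix.reindex e e A) ^ k).rank = (A ^ k).rank := by
  rw [← Matrix.reindexAlgEquiv_apply K K, ← map_pow, Matrix.reindexAlgEquiv_apply, Matrix.rank_reindex]

theorem reindex_jordan {n : ℕ} (e : JI d ≃ Fin n) :
    Matrix.reindex e e (Cfsg.jordanTypeMatrix d K) = 1 + Matrix.reindex e e (shiftMat d K) := by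
  rw [jordanTypeMatrix_eq, ← Matrix.reindexAlgEquiv_apply K K, map_add, map_one]
  rfl

/-- The Jordan type of a nilpotent matrix. -/
theorem exists_type {n : ℕ} {A : Matrix (Fin n) (Fin n) K} (hA : IsNilpotent A) :
    ∃ (L : ℕ) (d : Fin L → ℕ) (e : JI d ≃ Fin n), (∀ k, 1 ≤ d k) ∧
      IsConj (Matrix.reindex e e (shiftMat d K)) A := by
  obtain ⟨a, ha⟩ := hA
  obtain ⟨C⟩ := exists_chainBasis (N := Matrix.toLin' A) (W := ⊤) le_top (P := a) (by
    rw [show Matrix.toLin' A ^ a = Matrix.toLinAlgEquiv' (A ^ a) from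
      (map_pow Matrix.toLinAlgEquiv' A a).symm, ha]
    simp)
  have hcard : Fintype.card (JI C.sz) = n := by
    have h := C.rankOn_eq 0
    rw [rankOn_zero, finrank_top, Module.finrank_fin_fun] at h
    simpa using h.symm
  let e : JI C.sz ≃ Fin n := Fintype.equivFinOfCardEq hcard
  refine ⟨C.L, C.sz, e, C.sz_pos, isConj_of_rank ?_ ⟨a, ha⟩ fun k => ?_⟩
  · rw [← Matrix.reindexAlgEquiv_apply K K]
    exact (isNilpotent_shiftMat C.sz_pos).map _
  · rw [rank_reindex_pow, rank_shiftMat_pow C.sz_pos, ← C.rankOn_eq k, rankOn_top]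

/-- Classes of elements of order `p` when conjugacy is that of `GL` and every type occurs. -/
theorem card_classes_order_p {p n : ℕ} [Fact p.Prime] [CharP K p] (H : Subgroup (GL (Fin n) K))
    (hconj : ∀ a b : H, IsConj (a : GL (Fin n) K) (b : GL (Fin n) K) → IsConj a b)
    (hex : ∀ (L : ℕ) (d : Fin L → ℕ) (e : JI d ≃ Fin n), (∀ k, 1 ≤ d k) →
      ∃ g : H, IsConj (Matrix.reindex e e (shiftMat d K))
        (((g : GL (Fin n) K) : Matrix (Fin n) (Fin n) K) - 1)) :
    Nat.card {C : ConjClasses H // ∃ g : H, ConjClasses.mk g = C ∧ orderOf g = p} =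
      (Finset.univ.filter (fun μ : Nat.Partition n => ∀ a ∈ μ.parts, a ≤ p)).card - 1 := by
  classical
  have hp : p.Prime := Fact.out
  rcases Nat.eq_zero_or_pos n with rfl | hn
  · have h1 : ∀ g : H, orderOf g ≠ p := fun g => by
      rw [Subsingleton.elim g 1, orderOf_one]; exact hp.one_lt.ne
    haveI : IsEmpty {C : ConjClasses H // ∃ g : H, ConjClasses.mk g = C ∧ orderOf g = p} :=
      ⟨fun ⟨_, g, _, hg⟩ => h1 g hg⟩
    rw [Nat.card_of_isEmpty]
    have : (Finset.univ.filter (fun μ : Nat.Partition 0 => ∀ a ∈ μ.parts, a ≤ p)).card ≤ 1 := by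
      refine (Finset.card_le_univ _).trans ?_
      simp
    omega
  haveI : Nonempty (Fin n) := ⟨⟨0, hn⟩⟩
  haveI : CharP (Matrix (Fin n) (Fin n) K) p := inferInstance
  set S := Finset.univ.filter (fun μ : Nat.Partition n => ∀ a ∈ μ.parts, a ≤ p)
  set μ₁ : Nat.Partition n := ⟨Multiset.replicate n 1, fun h => by
    rw [Multiset.eq_of_mem_replicate h]; omega, by simp⟩
  have hμ₁ : μ₁ ∈ S := Finset.mem_filter.2 ⟨Finset.mem_univ _, fun a ha => by
    rw [Multiset.eq_of_mem_replicate ha]; exact hp.one_lt.le⟩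
  rw [← Finset.card_erase_of_mem hμ₁, ← Nat.card_eq_finsetCard]
  have hrep : ∀ μ : Nat.Partition n, ∃ (L : ℕ) (d : Fin L → ℕ),
      (∀ k, 1 ≤ d k) ∧ (Finset.univ : Finset (Fin L)).val.map d = μ.parts ∧
        Fintype.card (JI d) = n := by
    intro μ
    obtain ⟨L, d, hd⟩ := exists_list_family μ.parts
    refine ⟨L, d, fun k => μ.parts_pos (hd ▸ Multiset.mem_map.2 ⟨k, Finset.mem_univ k, rfl⟩), hd, ?_⟩
    rw [Fintype.card_sigma]
    simp only [Fintype.card_fin]
    rw [Finset.sum, hd, μ.parts_sum]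
  choose L d hd hparts hcard using hrep
  choose g hg using fun μ => hex (L μ) (d μ) (Fintype.equivFinOfCardEq (hcard μ)) (hd μ)
  have hrk : ∀ μ k, (((((g μ : H) : GL (Fin n) K) : Matrix (Fin n) (Fin n) K) - 1) ^ k).rank =
      ∑ i, (d μ i - k) := fun μ k => by
    rw [← rank_pow_eq_of_isConj (hg μ) k, rank_reindex_pow, rank_shiftMat_pow (hd μ)]
  have hord : ∀ (x : H), orderOf x = p ↔
      (((x : GL (Fin n) K) : Matrix (Fin n) (Fin n) K) - 1) ^ p = 0 ∧ x ≠ 1 := by
    intro x
    have e : x ^ p = 1 ↔ (((x : GL (Fin n) K) : Matrix (Fin n) (Fin n) K) - 1) ^ p = 0 := by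
      rw [sub_pow_char_of_commute _ (Commute.one_right _), one_pow, sub_eq_zero, ← Units.val_pow_eq_pow_val,
        Units.val_eq_one, ← SubgroupClass.coe_pow, OneMemClass.coe_eq_one]
    rw [← e]
    exact ⟨fun h => ⟨h ▸ pow_orderOf_eq_one x, fun h1 => by subst h1; rw [orderOf_one] at h; exact hp.one_lt.ne h⟩,
      fun h => orderOf_eq_prime h.1 h.2⟩
  have hone : ∀ μ ∈ S.erase μ₁, orderOf (g μ) = p := by
    intro μ hμ
    obtain ⟨hne, hμS⟩ := Finset.mem_erase.1 hμ
    refine (hord _).2 ⟨eq_zero_of_rank ((hrk μ p).trans ?_), fun h1 => hne ?_⟩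
    · refine Finset.sum_eq_zero fun i _ => ?_
      have := (Finset.mem_filter.1 hμS).2 (d μ i) (hparts μ ▸ Multiset.mem_map.2 ⟨i, Finset.mem_univ i, rfl⟩)
      omega
    · refine Nat.Partition.ext (Multiset.eq_replicate.2 ⟨?_, ?_⟩)
      · have h0 := hrk μ 0
        have h1' := hrk μ 1
        rw [h1, pow_one] at h1'
        simp only [OneMemClass.coe_one, Units.val_one, sub_self, Matrix.rank_zero] at h1'
        have hall : ∀ a ∈ μ.parts, a = 1 := fun a ha => by
          rw [← hparts μ] at ha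
          obtain ⟨i, -, rfl⟩ := Multiset.mem_map.1 ha
          have := Finset.sum_eq_zero_iff.1 h1'.symm i (Finset.mem_univ i)
          have := hd μ i
          omega
        have := μ.parts_sum
        rw [Multiset.eq_replicate_card.2 hall, Multiset.sum_replicate, smul_eq_mul, mul_one] at this
        exact this
      · intro a ha
        have h1' := hrk μ 1
        rw [h1, pow_one] at h1'
        simp only [OneMemClass.coe_one, Units.val_one, sub_self, Matrix.rank_zero] at h1'
        rw [← hparts μ] at ha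
        obtain ⟨i, -, rfl⟩ := Multiset.mem_map.1 ha
        have := Finset.sum_eq_zero_iff.1 h1'.symm i (Finset.mem_univ i)
        have := hd μ i
        omega
  refine (Nat.card_eq_of_bijective (fun μ : S.erase μ₁ =>
    (⟨ConjClasses.mk (g μ.1), g μ.1, rfl, hone μ.1 μ.2⟩ :
      {C : ConjClasses H // ∃ g : H, ConjClasses.mk g = C ∧ orderOf g = p})) ⟨?_, ?_⟩).symm
  · intro μ ν h
    have hc : IsConj (g μ.1) (g ν.1) := ConjClasses.mk_eq_mk_iff_isConj.1 (congrArg Subtype.val h)
    obtain ⟨c, hc⟩ := isConj_iff.1 hc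
    have hconjm : IsConj (((g μ.1 : GL (Fin n) K) : Matrix (Fin n) (Fin n) K) - 1)
        (((g ν.1 : GL (Fin n) K) : Matrix (Fin n) (Fin n) K) - 1) := by
      refine ⟨(c : GL (Fin n) K), ?_⟩
      show _ * (_ - 1) = (_ - 1) * _
      rw [← hc]
      simp [mul_sub, sub_mul]
    refine Subtype.ext (Nat.Partition.ext ?_)
    rw [← hparts, ← hparts]
    refine multiset_eq_of_rank (hd _) (hd _) fun k => ?_
    rw [← hrk, ← hrk]
    exact rank_pow_eq_of_isConj hconjm k
  · rintro ⟨C, x, rfl, hx⟩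
    obtain ⟨hxp, hx1⟩ := (hord x).1 hx
    obtain ⟨L', d', e', hd', he'⟩ := exists_type (A := ((x : GL (Fin n) K) : Matrix (Fin n) (Fin n) K) - 1) ⟨p, hxp⟩
    have hr : ∀ k, ((((x : GL (Fin n) K) : Matrix (Fin n) (Fin n) K) - 1) ^ k).rank = ∑ i, (d' i - k) :=
      fun k => by rw [← rank_pow_eq_of_isConj he' k, rank_reindex_pow, rank_shiftMat_pow hd']
    have hsum : ((Finset.univ : Finset (Fin L')).val.map d').sum = n := by
      have h := Fintype.card_congr e'
      rwa [Fintype.card_sigma, Fintype.card_fin, Finset.sum_congr rfl fun i _ => Fintype.card_fin (d' i)] at h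
    let μ : Nat.Partition n := ⟨(Finset.univ : Finset (Fin L')).val.map d', fun h => by
      obtain ⟨i, -, rfl⟩ := Multiset.mem_map.1 h
      exact hd' i, hsum⟩
    have hμp : μ.parts = Multiset.map d' (Finset.univ : Finset (Fin L')).val := rfl
    have hμ : μ ∈ S.erase μ₁ := by
      refine Finset.mem_erase.2 ⟨fun h => hx1 ?_, Finset.mem_filter.2 ⟨Finset.mem_univ _, fun a ha => ?_⟩⟩
      · have hall : ∀ i, d' i = 1 := fun i => Multiset.eq_of_mem_replicate (n := n)
          (by
            have hi : d' i ∈ μ.parts := hμp ▸ Multiset.mem_map_of_mem d' (Finset.mem_univ i)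
            rw [h] at hi; exact hi)
        have := hr 1
        rw [Finset.sum_eq_zero (fun i _ => by simp [hall i]), pow_one] at this
        have := eq_zero_of_rank this
        rw [sub_eq_zero, Units.val_eq_one] at this
        exact OneMemClass.coe_eq_one.1 this
      · rw [hμp] at ha
        obtain ⟨i, -, rfl⟩ := Multiset.mem_map.1 ha
        have := hr p
        rw [hxp, Matrix.rank_zero] at this
        have := Finset.sum_eq_zero_iff.1 this.symm i (Finset.mem_univ i)
        omega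
    refine ⟨⟨μ, hμ⟩, Subtype.ext (ConjClasses.mk_eq_mk_iff_isConj.2 (hconj _ _ ?_))⟩
    have hc : IsConj (((g μ : GL (Fin n) K) : Matrix (Fin n) (Fin n) K) - 1)
        (((x : GL (Fin n) K) : Matrix (Fin n) (Fin n) K) - 1) := by
      refine isConj_of_rank ⟨p, ?_⟩ ⟨p, hxp⟩ fun k => ?_
      · refine eq_zero_of_rank ((hrk μ p).trans ?_)
        refine Finset.sum_eq_zero fun i _ => ?_
        have := (Finset.mem_filter.1 (Finset.mem_of_mem_erase hμ)).2 (d μ i)
          (hparts μ ▸ Multiset.mem_map.2 ⟨i, Finset.mem_univ i, rfl⟩)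
        omega
      · rw [hrk, hr]
        have hm : (Finset.univ : Finset (Fin (L μ))).val.map (d μ) =
            (Finset.univ : Finset (Fin L')).val.map d' := hparts μ
        show ((Finset.univ : Finset (Fin (L μ))).val.map fun i => d μ i - k).sum =
          ((Finset.univ : Finset (Fin L')).val.map fun i => d' i - k).sum
        rw [show (fun i => d μ i - k) = (fun x => x - k) ∘ d μ from rfl,
          show (fun i => d' i - k) = (fun x => x - k) ∘ d' from rfl, ← Multiset.map_map, ← Multiset.map_map, hm]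
    have hc1 := (isConj_one_add_iff _ _).2 hc
    rw [add_sub_cancel, add_sub_cancel] at hc1
    obtain ⟨c, hc1⟩ := hc1
    refine ⟨toUnits c, Units.ext ?_⟩
    exact hc1

end CfsgLib.UnipotentJordan
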