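import Cfsg.Agent.UnipotentJordan.Count
import Cfsg.Agent.UnipotentJordan.Classify

/-!
A unitary element of each Jordan type and the order of the unitary commutant.
-/

set_option autoImplicit false

namespace CfsgLib.UnipotentJordan

open Finset Matrix CfsgLib.InvNorm

variable {K : Type*} [Field K]

/-- Conjugate transpose on any index type. -/
def tauI {ι : Type*} (σ : K →+* K) (M : Matrix ι ι K) : Matrix ι ι K := (M.map σ)ᵀ

theorem tauI_mul {ι : Type*} [Fintype ι] (σ : K →+* K) (M N : Matrix ι ι K) :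
    tauI σ (M * N) = tauI σ N * tauI σ M := by
  simp [tauI, Matrix.map_mul]

theorem tauI_add {ι : Type*} (σ : K →+* K) (M N : Matrix ι ι K) :
    tauI σ (M + N) = tauI σ M + tauI σ N := by
  ext i j; simp [tauI]

theorem tauI_one {ι : Type*} [DecidableEq ι] (σ : K →+* K) : tauI σ (1 : Matrix ι ι K) = 1 := by
  simp [tauI]

theorem tauI_tauI {ι : Type*} {σ : K →+* K} (h : ∀ x, σ (σ x) = x) (M : Matrix ι ι K) :
    tauI σ (tauI σ M) = M := by
  ext i j; simp [tauI, h]

theorem tauI_scalar {ι : Type*} [Fintype ι] [DecidableEq ι] (σ : K →+* K) (a : K) :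
    tauI σ (Matrix.scalar ι a) = Matrix.scalar ι (σ a) := by
  simp [tauI, Matrix.scalar, Matrix.diagonal_map]

theorem tauI_reindex {ι κ : Type*} (e : ι ≃ κ) (σ : K →+* K) (M : Matrix ι ι K) :
    tauI σ (Matrix.reindex e e M) = Matrix.reindex e e (tauI σ M) := rfl

variable {t : ℕ} {d : Fin t → ℕ}

/-- Reversal inside each block. -/
def rvI (p : JI d) : JI d := ⟨p.1, Fin.rev p.2⟩

theorem rvI_rvI (p : JI d) : rvI (rvI p) = p := by simp [rvI]

/-- Reversal inside each block, as a permutation. -/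
def rvE : Equiv.Perm (JI d) := Function.Involutive.toPerm rvI rvI_rvI

/-- The matrix of the reversal. -/
def pMat (d : Fin t → ℕ) (K : Type*) [Field K] : Matrix (JI d) (JI d) K :=
  Matrix.of fun p r => if rvI p = r then 1 else 0

theorem pMat_mul_apply (a : Matrix (JI d) (JI d) K) (p r : JI d) : (pMat d K * a) p r = a (rvI p) r := by
  rw [Matrix.mul_apply, Finset.sum_eq_single (rvI p)]
  · simp [pMat]
  · intro x _ hx; simp [pMat, Ne.symm hx]
  · simp

theorem mul_pMat_apply (a : Matrix (JI d) (JI d) K) (p r : JI d) : (a * pMat d K) p r = a p (rvI r) := by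
  rw [Matrix.mul_apply, Finset.sum_eq_single (rvI r)]
  · simp [pMat, rvI_rvI]
  · intro x _ hx
    rw [pMat, Matrix.of_apply, if_neg, mul_zero]
    exact fun e => hx (by rw [← e, rvI_rvI])
  · simp

theorem pMat_mul_pMat : pMat d K * pMat d K = 1 := by
  ext p r
  rw [pMat_mul_apply, pMat, Matrix.of_apply, rvI_rvI, Matrix.one_apply]

theorem tauI_pMat (σ : K →+* K) : tauI σ (pMat d K) = pMat d K := by
  ext p r
  simp only [tauI, Matrix.transpose_apply, Matrix.map_apply, pMat, Matrix.of_apply]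
  rw [apply_ite σ, map_one, map_zero]
  exact if_congr ⟨fun h => by rw [← h, rvI_rvI], fun h => by rw [← h, rvI_rvI]⟩ rfl rfl

/-- The adjoint for the antidiagonal Hermitian form of the type. -/
def adj (σ : K →+* K) (a : Matrix (JI d) (JI d) K) : Matrix (JI d) (JI d) K :=
  pMat d K * tauI σ a * pMat d K

theorem adj_apply (σ : K →+* K) (a : Matrix (JI d) (JI d) K) (p r : JI d) :
    adj σ a p r = σ (a (rvI r) (rvI p)) := by
  rw [adj, mul_pMat_apply, pMat_mul_apply]
  rfl

theorem adj_mul (σ : K →+* K) (a b : Matrix (JI d) (JI d) K) :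
    adj σ (a * b) = adj σ b * adj σ a := by
  simp only [adj, tauI_mul]
  calc pMat d K * (tauI σ b * tauI σ a) * pMat d K
      = pMat d K * tauI σ b * (pMat d K * pMat d K) * tauI σ a * pMat d K := by
        rw [pMat_mul_pMat, mul_one, mul_assoc (pMat d K) (tauI σ b)]
    _ = _ := by simp only [mul_assoc]

theorem adj_add (σ : K →+* K) (a b : Matrix (JI d) (JI d) K) :
    adj σ (a + b) = adj σ a + adj σ b := by
  simp [adj, tauI_add, mul_add, add_mul]

theorem adj_one (σ : K →+* K) : adj σ (1 : Matrix (JI d) (JI d) K) = 1 := by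
  rw [adj, tauI_one, mul_one, pMat_mul_pMat]

theorem adj_adj {σ : K →+* K} (h : ∀ x, σ (σ x) = x) (a : Matrix (JI d) (JI d) K) :
    adj σ (adj σ a) = a := by
  ext p r; simp [adj_apply, h, rvI_rvI]

theorem adj_scalar (σ : K →+* K) (z : K) :
    adj σ (Matrix.scalar (JI d) z) = Matrix.scalar (JI d) (σ z) := by
  rw [adj, tauI_scalar, ← (Matrix.scalar_commute (σ z) (fun r => Commute.all _ r) (pMat d K)).eq,
    mul_assoc, pMat_mul_pMat, mul_one]

theorem adj_shiftMat (σ : K →+* K) : adj σ (shiftMat d K) = shiftMat d K := by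
  ext ⟨l, i⟩ ⟨k, j⟩
  rw [adj_apply, shiftMat, Matrix.of_apply, Matrix.of_apply, apply_ite σ, map_one, map_zero]
  refine if_congr ?_ rfl rfl
  simp only [rvI, Fin.val_rev]
  constructor
  · rintro ⟨rfl, h⟩; exact ⟨rfl, by omega⟩
  · rintro ⟨rfl, h⟩; exact ⟨rfl, by omega⟩

theorem adj_mem_commutant (σ : K →+* K) {a : Matrix (JI d) (JI d) K} (ha : a ∈ commutant d K) :
    adj σ a ∈ commutant d K := by
  rw [mem_commutant_iff] at ha ⊢
  have h := congrArg (adj σ) ha
  rw [adj_mul, adj_mul, adj_shiftMat] at h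
  exact h.symm

theorem lead_adj (hd : ∀ k, 1 ≤ d k) (σ : K →+* K) {a : Matrix (JI d) (JI d) K}
    (ha : a ∈ commutant d K) : lead d (adj σ a) = tauI σ (lead d a) := by
  ext l k
  simp only [lead, tauI, Matrix.of_apply, Matrix.transpose_apply, Matrix.map_apply]
  rw [apply_ite σ, map_zero]
  by_cases h : d l = d k
  · rw [if_pos h, if_pos h.symm]
    have h1 := ent_commutant ha k l (d l - 1) (d k - 1) (by have := hd k; omega) (by have := hd l; omega)
    rw [if_pos (by omega), show d k - 1 - (d l - 1) = 0 by omega] at h1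
    rw [← h1]
    simp only [ent]
    rw [dif_pos ⟨hd l, hd k⟩, dif_pos ⟨by have := hd k; omega, by have := hd l; omega⟩, adj_apply]
    rfl
  · rw [if_neg h, if_neg (Ne.symm h)]

theorem adj_lift (σ : K →+* K) (M : Matrix (Fin t) (Fin t) K) :
    adj σ (lift d M) = lift d (tauI σ M) := by
  ext ⟨l, i⟩ ⟨k, j⟩
  simp only [adj_apply, lift, tauI, Matrix.of_apply, Matrix.transpose_apply, Matrix.map_apply, rvI,
    apply_ite σ, map_zero, Fin.val_rev]
  refine if_congr ⟨fun ⟨h1, h2⟩ => ⟨?_, h2.symm⟩, fun ⟨h1, h2⟩ => ⟨?_, h2.symm⟩⟩ rfl rfl <;>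
    · have := i.isLt; have := j.isLt; omega

theorem tauI_mem_blk (σ : K →+* K) {M : Matrix (Fin t) (Fin t) K} (hM : M ∈ blk d K) :
    tauI σ M ∈ blk d K := fun l k h => by simp [tauI, hM k l (Ne.symm h)]

section Finite

variable [Fintype K] {q : ℕ} {σ : K →+* K}

theorem natCard_unitary_matrices (hK : Fintype.card K = q ^ 2) (hσ : ∀ x, σ x = x ^ q)
    (hσσ : ∀ x, σ (σ x) = x) {ι : Type*} [Fintype ι] [DecidableEq ι] {a : ℕ} (ha : Fintype.card ι = a) :
    Nat.card {N : Matrix ι ι K // tauI σ N * N = 1} =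
      q ^ (∑ i ∈ Finset.range a, i) * ∏ i ∈ Finset.range a, Forms.u q (i + 1) := by
  rw [← Forms.card_GU hK a]
  refine Nat.card_congr ((Equiv.subtypeEquiv (Matrix.reindex (Fintype.equivFinOfCardEq ha)
    (Fintype.equivFinOfCardEq ha)) (q := fun M => tau σ M * M = 1) fun N => ?_).trans
    { toFun := fun M => ⟨⟨M.1, tau σ M.1, mul_eq_one_comm.1 M.2, M.2⟩,
        (mem_GU_iff hσ hσσ _).2 M.2⟩
      invFun := fun g => ⟨g.1, (mem_GU_iff hσ hσσ _).1 g.2⟩
      left_inv := fun M => rfl
      right_inv := fun g => Subtype.ext (Units.ext rfl) })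
  set e := Fintype.equivFinOfCardEq ha
  show _ ↔ tauI σ (Matrix.reindex e e N) * Matrix.reindex e e N = 1
  rw [tauI_reindex, ← Matrix.coe_reindexAlgEquiv K K, ← map_mul, map_eq_one_iff _ (Matrix.reindexAlgEquiv K K e).injective]

theorem natCard_blk_unitary (hK : Fintype.card K = q ^ 2) (hσ : ∀ x, σ x = x ^ q)
    (hσσ : ∀ x, σ (σ x) = x) (D : ℕ) (hD : ∀ k, d k ≤ D) :
    Nat.card {M : blk d K // tauI σ (M : Matrix (Fin t) (Fin t) K) * M = 1} =
      ∏ i ∈ Finset.range (D + 1), (q ^ (∑ j ∈ Finset.range (Finset.univ.filter fun k => d k = i).card, j) *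
        ∏ j ∈ Finset.range (Finset.univ.filter fun k => d k = i).card, Forms.u q (j + 1)) := by
  classical
  have e1 : {M : blk d K // tauI σ (M : Matrix (Fin t) (Fin t) K) * M = 1} ≃
      ((i : Fin (D + 1)) → {N : Matrix {k // d k = (i : ℕ)} {k // d k = (i : ℕ)} K // tauI σ N * N = 1}) :=
    (Equiv.subtypeEquiv (blkEquiv d D hD).toEquiv (q := fun N => ∀ i, tauI σ (N i) * N i = 1) fun M => by
      have h1 : tauI σ (M : Matrix (Fin t) (Fin t) K) * M = 1 ↔
          (⟨tauI σ M.1, tauI_mem_blk σ M.2⟩ * M : blk d K) = 1 :=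
        ⟨fun h => Subtype.ext h, fun h => congrArg Subtype.val h⟩
      rw [h1, ← map_eq_one_iff _ (blkEquiv d D hD).injective, map_mul, funext_iff]
      exact Iff.rfl).trans (Equiv.subtypePiEquivPi
        (p := fun (i : Fin (D + 1)) (N : Matrix {k // d k = (i : ℕ)} {k // d k = (i : ℕ)} K) => tauI σ N * N = 1))
  rw [Nat.card_congr e1, Nat.card_pi, ← Fin.prod_univ_eq_prod_range (fun i =>
    q ^ (∑ j ∈ Finset.range (Finset.univ.filter fun k => d k = i).card, j) *
      ∏ j ∈ Finset.range (Finset.univ.filter fun k => d k = i).card, Forms.u q (j + 1))]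
  exact Finset.prod_congr rfl fun i _ => natCard_unitary_matrices hK hσ hσσ (Fintype.card_subtype _)

theorem exists_sigma_ne (hK : Fintype.card K = q ^ 2) (hσ : ∀ x, σ x = x ^ q) : ∃ a : K, σ a ≠ a := by
  by_contra h
  push Not at h
  exact Forms.conj_ne_id hK hσ (RingHom.ext h)

variable (d) in
/-- The norm subring lemma in the commutant: fixed units are norms. -/
theorem exists_norm_commutant (hK : Fintype.card K = q ^ 2) (hσ : ∀ x, σ x = x ^ q)
    (hσσ : ∀ x, σ (σ x) = x) {h : Matrix (JI d) (JI d) K} (hh : IsUnit h) (hfix : adj σ h = h) :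
    ∃ c ∈ Subring.closure (Set.range (Matrix.scalar (JI d)) ∪ {h}), IsUnit c ∧ adj σ c * c = h := by
  obtain ⟨a, ha⟩ := exists_sigma_ne hK hσ
  obtain ⟨c, hc, hcu, -, hch⟩ := exists_norm_eq_of_anti (adj σ) (adj_add σ) (adj_mul σ) (adj_one σ)
    (Set.range (Matrix.scalar (JI d)) ∪ {h})
    (by
      rintro x (⟨z, rfl⟩ | rfl) y (⟨w, rfl⟩ | rfl)
      · rw [← map_mul, ← map_mul, mul_comm]
      · exact (Matrix.scalar_commute z (fun r => Commute.all z r) _).eq
      · exact (Matrix.scalar_commute w (fun r => Commute.all w r) _).eq.symm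
      · rfl)
    (by
      rintro x (⟨z, rfl⟩ | rfl)
      · rw [adj_scalar]; exact Subring.subset_closure (Or.inl ⟨_, rfl⟩)
      · rw [hfix]; exact Subring.subset_closure (Or.inr rfl))
    (fun x _ => adj_adj hσσ x)
    (lam := Matrix.scalar (JI d) a) (Subring.subset_closure (Or.inl ⟨a, rfl⟩))
    (by
      rw [adj_scalar, ← map_sub]
      exact (isUnit_iff_ne_zero.2 (sub_ne_zero.2 ha.symm)).map _)
    (Subring.subset_closure (Or.inr rfl)) hh hfix
  exact ⟨c, hc, hcu, hch⟩

theorem natCard_unitary_kernel (hd : ∀ k, 1 ≤ d k) (hK : Fintype.card K = q ^ 2)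
    (hσ : ∀ x, σ x = x ^ q) (hσσ : ∀ x, σ (σ x) = x) :
    Nat.card {b : Matrix (JI d) (JI d) K // b ∈ commutant d K ∧ lead d b = 1 ∧ adj σ b * b = 1} ^ 2 =
      Nat.card (radK d K) := by
  classical
  set Ker := {b : Matrix (JI d) (JI d) K // b ∈ commutant d K ∧ lead d b = 1 ∧ adj σ b * b = 1}
  let One := {b : Matrix (JI d) (JI d) K // b ∈ commutant d K ∧ lead d b = 1}
  let SymOne := {h : Matrix (JI d) (JI d) K // h ∈ commutant d K ∧ lead d h = 1 ∧ adj σ h = h}
  let SymJ := {x : Matrix (JI d) (JI d) K // x ∈ commutant d K ∧ lead d x = 0 ∧ adj σ x = x}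
  -- every symmetric element is a norm
  have hsurj : ∀ h : SymOne, ∃ b : One, adj σ b.1 * b.1 = h.1 := by
    rintro ⟨h, hh, hl, hfix⟩
    obtain ⟨c, hc, -, hch⟩ := exists_norm_commutant d hK hσ hσσ (isUnit_of_lead_eq_one hd hh hl) hfix
    have hcA : c ∈ commutant d K := by
      refine Subring.closure_le.2 ?_ hc
      rintro x (⟨z, rfl⟩ | rfl)
      · exact mem_commutant_iff.2 (Matrix.scalar_commute z (fun r => Commute.all z r) _).eq.symm
      · exact hh
    have hM : tauI σ (lead d c) * lead d c = 1 := by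
      rw [← lead_adj hd σ hcA, ← lead_mul (adj_mem_commutant σ hcA) hcA, hch, hl]
    refine ⟨⟨lift d (tauI σ (lead d c)) * c, mul_mem lift_mem hcA, ?_⟩, ?_⟩
    · rw [lead_mul lift_mem hcA, lead_lift hd (tauI_mem_blk σ (lead_mem c)), hM]
    · show adj σ (lift d (tauI σ (lead d c)) * c) * (lift d (tauI σ (lead d c)) * c) = h
      rw [adj_mul, adj_lift, tauI_tauI hσσ]
      calc adj σ c * lift d (lead d c) * (lift d (tauI σ (lead d c)) * c)
          = adj σ c * (lift d (lead d c) * lift d (tauI σ (lead d c))) * c := by simp only [mul_assoc]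
        _ = h := by
          rw [← lift_mul (lead_mem c), mul_eq_one_comm.1 hM, lift_one, mul_one, hch]
  let N : One → SymOne := fun b => ⟨adj σ b.1 * b.1, mul_mem (adj_mem_commutant σ b.2.1) b.2.1,
    by rw [lead_mul (adj_mem_commutant σ b.2.1) b.2.1, lead_adj hd σ b.2.1, b.2.2, tauI_one, one_mul],
    by rw [adj_mul, adj_adj hσσ]⟩
  -- the fibres are translates of the kernel
  have h1 : Nat.card One = Nat.card SymOne * Nat.card Ker := by
    choose b₀ hb₀ using hsurj
    rw [← Nat.card_prod]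
    refine (Nat.card_eq_of_bijective (fun x : SymOne × Ker =>
      (⟨x.2.1 * (b₀ x.1).1, mul_mem x.2.2.1 (b₀ x.1).2.1, by
        rw [lead_mul x.2.2.1 (b₀ x.1).2.1, x.2.2.2.1, (b₀ x.1).2.2, one_mul]⟩ : One)) ⟨?_, ?_⟩).symm
    · intro x y e
      have e' : x.2.1 * (b₀ x.1).1 = y.2.1 * (b₀ y.1).1 := congrArg Subtype.val e
      have hN : ∀ z : SymOne × Ker, adj σ (z.2.1 * (b₀ z.1).1) * (z.2.1 * (b₀ z.1).1) = z.1.1 := by
        intro z
        rw [adj_mul]
        calc adj σ (b₀ z.1).1 * adj σ z.2.1 * (z.2.1 * (b₀ z.1).1)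
            = adj σ (b₀ z.1).1 * (adj σ z.2.1 * z.2.1) * (b₀ z.1).1 := by simp only [mul_assoc]
          _ = _ := by rw [z.2.2.2.2, mul_one, hb₀]
      have hx : x.1 = y.1 := Subtype.ext (by rw [← hN x, e', hN y])
      rw [hx] at e'
      exact Prod.ext hx (Subtype.ext ((isUnit_of_lead_eq_one hd (b₀ y.1).2.1 (b₀ y.1).2.2).mul_right_cancel e'))
    · intro b
      obtain ⟨v, hv⟩ := subring_isUnit (commutant d K) (x := ⟨(b₀ (N b)).1, (b₀ (N b)).2.1⟩)
        (isUnit_of_lead_eq_one hd (b₀ (N b)).2.1 (b₀ (N b)).2.2)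
      set w : Matrix (JI d) (JI d) K := ((v⁻¹ : (commutant d K)ˣ) : commutant d K).1
      have hwA : w ∈ commutant d K := SetLike.coe_mem _
      have hv' : (v : commutant d K).1 = (b₀ (N b)).1 := congrArg Subtype.val hv
      have hw1 : w * (b₀ (N b)).1 = 1 := by
        rw [← hv', ← Subring.coe_mul, Units.inv_mul]; rfl
      have hw2 : (b₀ (N b)).1 * w = 1 := mul_eq_one_comm.1 hw1
      refine ⟨(N b, ⟨b.1 * w, mul_mem b.2.1 hwA, ?_, ?_⟩), Subtype.ext ?_⟩
      · have := congrArg (lead d) hw1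
        rw [lead_mul hwA (b₀ (N b)).2.1, (b₀ (N b)).2.2, mul_one, lead_one hd] at this
        rw [lead_mul b.2.1 hwA, b.2.2, this, one_mul]
      · rw [adj_mul]
        calc adj σ w * adj σ b.1 * (b.1 * w) = adj σ w * (adj σ b.1 * b.1) * w := by simp only [mul_assoc]
          _ = adj σ w * (adj σ (b₀ (N b)).1 * (b₀ (N b)).1) * w := by rw [hb₀ (N b)]
          _ = adj σ ((b₀ (N b)).1 * w) * ((b₀ (N b)).1 * w) := by rw [adj_mul]; simp only [mul_assoc]
          _ = 1 := by rw [hw2, adj_one, one_mul]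
      · show b.1 * w * (b₀ (N b)).1 = b.1
        rw [mul_assoc, hw1, mul_one]
  have h2 : Nat.card SymOne = Nat.card SymJ := Nat.card_congr
    { toFun := fun h => ⟨h.1 - 1, sub_mem h.2.1 (one_mem _), by
          rw [lead_sub, h.2.2.1, lead_one hd, sub_self], by
          rw [eq_sub_iff_add_eq]
          conv_rhs => rw [← h.2.2.2, ← sub_add_cancel h.1 1, adj_add, adj_one]⟩
      invFun := fun x => ⟨x.1 + 1, add_mem x.2.1 (one_mem _), by
          rw [lead_add, x.2.2.1, lead_one hd, zero_add], by rw [adj_add, adj_one, x.2.2.2]⟩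
      left_inv := fun h => Subtype.ext (sub_add_cancel _ _)
      right_inv := fun x => Subtype.ext (add_sub_cancel_right _ _) }
  have h3 : Nat.card SymJ * Nat.card SymJ = Nat.card (radK d K) := by
    obtain ⟨θ, hθ⟩ := exists_sigma_ne hK hσ
    have hθ0 : θ - σ θ ≠ 0 := sub_ne_zero.2 (Ne.symm hθ)
    have hsm : ∀ (z : K) (x : Matrix (JI d) (JI d) K), x ∈ commutant d K → lead d x = 0 →
        Matrix.scalar (JI d) z * x ∈ commutant d K ∧ lead d (Matrix.scalar (JI d) z * x) = 0 := by
      intro z x hx hl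
      have hz : Matrix.scalar (JI d) z ∈ commutant d K :=
        mem_commutant_iff.2 (Matrix.scalar_commute z (fun r => Commute.all z r) _).eq.symm
      exact ⟨mul_mem hz hx, by rw [lead_mul hz hx, hl, mul_zero]⟩
    have hadjs : ∀ (z : K) (x : Matrix (JI d) (JI d) K),
        adj σ (Matrix.scalar (JI d) z * x) = Matrix.scalar (JI d) (σ z) * adj σ x := by
      intro z x
      rw [adj_mul, adj_scalar, (Matrix.scalar_commute (σ z) (fun r => Commute.all _ r) _).eq]
    have hadj_sub : ∀ x y : Matrix (JI d) (JI d) K, adj σ (x - y) = adj σ x - adj σ y := by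
      intro x y
      rw [eq_sub_iff_add_eq, ← adj_add, sub_add_cancel]
    have hlead_adj : ∀ x : Matrix (JI d) (JI d) K, x ∈ commutant d K → lead d x = 0 → lead d (adj σ x) = 0 := by
      intro x hx hl
      rw [lead_adj hd σ hx, hl]
      ext i j; simp [tauI]
    rw [← Nat.card_prod]
    refine Nat.card_eq_of_bijective (fun x : SymJ × SymJ =>
      (⟨x.1.1 + Matrix.scalar (JI d) θ * x.2.1, add_mem x.1.2.1 (hsm θ _ x.2.2.1 x.2.2.2.1).1, by
        rw [lead_add, x.1.2.2.1, (hsm θ _ x.2.2.1 x.2.2.2.1).2, add_zero]⟩ : radK d K)) ⟨?_, ?_⟩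
    · intro x y e
      have e1 : x.1.1 + Matrix.scalar (JI d) θ * x.2.1 = y.1.1 + Matrix.scalar (JI d) θ * y.2.1 :=
        congrArg Subtype.val e
      have e2 := congrArg (adj σ) e1
      rw [adj_add, adj_add, hadjs, hadjs, x.1.2.2.2, y.1.2.2.2, x.2.2.2.2, y.2.2.2.2] at e2
      have e3 : Matrix.scalar (JI d) (θ - σ θ) * x.2.1 = Matrix.scalar (JI d) (θ - σ θ) * y.2.1 := by
        rw [map_sub, sub_mul, sub_mul]
        calc Matrix.scalar (JI d) θ * x.2.1 - Matrix.scalar (JI d) (σ θ) * x.2.1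
            = (x.1.1 + Matrix.scalar (JI d) θ * x.2.1) - (x.1.1 + Matrix.scalar (JI d) (σ θ) * x.2.1) := by abel
          _ = _ := by rw [e1, e2]; abel
      have hy2 : x.2 = y.2 := Subtype.ext
        (((isUnit_iff_ne_zero.2 hθ0).map (Matrix.scalar (JI d))).mul_left_cancel e3)
      rw [hy2] at e1
      exact Prod.ext (Subtype.ext (add_right_cancel e1)) hy2
    · rintro ⟨z, hz, hzl⟩
      set y := Matrix.scalar (JI d) (θ - σ θ)⁻¹ * (z - adj σ z) with hy
      have hyA := hsm (θ - σ θ)⁻¹ (z - adj σ z) (sub_mem hz (adj_mem_commutant σ hz))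
        (by rw [lead_sub, hzl, hlead_adj z hz hzl, sub_zero])
      have hyfix : adj σ y = y := by
        rw [hy, hadjs, hadj_sub, adj_adj hσσ, map_inv₀, map_sub, hσσ,
          show (σ θ - θ)⁻¹ = -(θ - σ θ)⁻¹ by rw [← inv_neg, neg_sub], map_neg, neg_mul, ← mul_neg, neg_sub]
      have hθy := hsm θ y hyA.1 hyA.2
      refine ⟨(⟨z - Matrix.scalar (JI d) θ * y, sub_mem hz hθy.1, by rw [lead_sub, hzl, hθy.2, sub_zero],
        ?_⟩, ⟨y, hyA.1, hyA.2, hyfix⟩), Subtype.ext (sub_add_cancel _ _)⟩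
      rw [hadj_sub, hadjs, hyfix]
      have : z - adj σ z = Matrix.scalar (JI d) θ * y - Matrix.scalar (JI d) (σ θ) * y := by
        rw [← sub_mul, ← map_sub, hy, ← mul_assoc, ← map_mul, mul_inv_cancel₀ hθ0, map_one, one_mul]
      calc adj σ z - Matrix.scalar (JI d) (σ θ) * y
          = z - (z - adj σ z) - Matrix.scalar (JI d) (σ θ) * y := by abel
        _ = _ := by rw [this]; abel
  have h4 : Nat.card One = Nat.card (radK d K) := natCard_lead_one hd
  haveI : Nonempty SymJ := ⟨⟨0, zero_mem _, by ext l k; simp [lead, ent], by simp [adj, tauI]⟩⟩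
  have hpos : 0 < Nat.card SymJ := Nat.card_pos
  have e : Nat.card SymJ = Nat.card Ker :=
    Nat.eq_of_mul_eq_mul_left hpos (by rw [h3, ← h4, h1, h2])
  rw [sq, ← e, h3]

theorem natCard_unitary_commutant (hd : ∀ k, 1 ≤ d k) (hσσ : ∀ x, σ (σ x) = x) :
    Nat.card {a : Matrix (JI d) (JI d) K // a ∈ commutant d K ∧ adj σ a * a = 1} =
      Nat.card {M : blk d K // tauI σ (M : Matrix (Fin t) (Fin t) K) * M = 1} *
        Nat.card {b : Matrix (JI d) (JI d) K // b ∈ commutant d K ∧ lead d b = 1 ∧ adj σ b * b = 1} := by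
  rw [← Nat.card_prod]
  refine Nat.card_congr
    { toFun := fun a => (⟨⟨lead d a.1, lead_mem _⟩, ?_⟩,
        ⟨lift d (tauI σ (lead d a.1)) * a.1, mul_mem lift_mem a.2.1, ?_, ?_⟩)
      invFun := fun x => ⟨lift d x.1.1.1 * x.2.1, mul_mem lift_mem x.2.2.1, ?_⟩
      left_inv := fun a => Subtype.ext ?_
      right_inv := fun x => ?_ }
  · show tauI σ (lead d a.1) * lead d a.1 = 1
    rw [← lead_adj hd σ a.2.1, ← lead_mul (adj_mem_commutant σ a.2.1) a.2.1, a.2.2, lead_one hd]
  · rw [lead_mul lift_mem a.2.1, lead_lift hd (tauI_mem_blk σ (lead_mem _)), ← lead_adj hd σ a.2.1,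
      ← lead_mul (adj_mem_commutant σ a.2.1) a.2.1, a.2.2, lead_one hd]
  · have hM : lead d a.1 * tauI σ (lead d a.1) = 1 := by
      rw [mul_eq_one_comm, ← lead_adj hd σ a.2.1, ← lead_mul (adj_mem_commutant σ a.2.1) a.2.1, a.2.2,
        lead_one hd]
    rw [adj_mul, adj_lift, tauI_tauI hσσ]
    calc adj σ a.1 * lift d (lead d a.1) * (lift d (tauI σ (lead d a.1)) * a.1)
        = adj σ a.1 * (lift d (lead d a.1) * lift d (tauI σ (lead d a.1))) * a.1 := by simp only [mul_assoc]
      _ = 1 := by rw [← lift_mul (lead_mem _), hM, lift_one, mul_one, a.2.2]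
  · rw [adj_mul, adj_lift]
    calc adj σ x.2.1 * lift d (tauI σ x.1.1.1) * (lift d x.1.1.1 * x.2.1)
        = adj σ x.2.1 * (lift d (tauI σ x.1.1.1) * lift d x.1.1.1) * x.2.1 := by simp only [mul_assoc]
      _ = 1 := by rw [← lift_mul (tauI_mem_blk σ x.1.1.2), x.1.2, lift_one, mul_one, x.2.2.2.2]
  · have hM : lead d a.1 * tauI σ (lead d a.1) = 1 := by
      rw [mul_eq_one_comm, ← lead_adj hd σ a.2.1, ← lead_mul (adj_mem_commutant σ a.2.1) a.2.1, a.2.2,
        lead_one hd]
    show lift d (lead d a.1) * (lift d (tauI σ (lead d a.1)) * a.1) = a.1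
    rw [← mul_assoc, ← lift_mul (lead_mem _), hM, lift_one, one_mul]
  · have hl : lead d (lift d x.1.1.1 * x.2.1) = x.1.1.1 := by
      rw [lead_mul lift_mem x.2.2.1, lead_lift hd x.1.1.2, x.2.2.2.1, mul_one]
    refine Prod.ext (Subtype.ext (Subtype.ext hl)) (Subtype.ext ?_)
    show lift d (tauI σ (lead d (lift d x.1.1.1 * x.2.1))) * (lift d x.1.1.1 * x.2.1) = x.2.1
    rw [hl, ← mul_assoc, ← lift_mul (tauI_mem_blk σ x.1.1.2), x.1.2, lift_one, one_mul]

/-- A unitary element of the given type and its centralizer. -/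
theorem exists_unitary_model {n : ℕ} (hd : ∀ k, 1 ≤ d k) (hK : Fintype.card K = q ^ 2)
    (hσ : ∀ x, σ x = x ^ q) (hσσ : ∀ x, σ (σ x) = x) (e : JI d ≃ Fin n) :
    ∃ (g : Cfsg.GU n K q) (c c' : Matrix (JI d) (JI d) K), c * c' = 1 ∧ c' * c = 1 ∧
      IsConj (Matrix.reindex e e (shiftMat d K)) (((g : GL (Fin n) K) : Matrix (Fin n) (Fin n) K) - 1) ∧
      ∃ Φ : {a : Matrix (JI d) (JI d) K // a ∈ commutant d K ∧ adj σ a * a = 1} ≃
          Subgroup.centralizer ({g} : Set (Cfsg.GU n K q)),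
        ∀ a, ((Φ a).1 : GL (Fin n) K).1 = Matrix.reindex e e (c * a.1 * c') := by
  classical
  obtain ⟨lam, hlam⟩ := exists_sigma_ne hK hσ
  let Z : K → Matrix (JI d) (JI d) K := fun z => Matrix.scalar (JI d) z * shiftMat d K
  have hZc : ∀ z w, Commute (Z z) (Z w) := fun z w =>
    Commute.mul_left ((Matrix.scalar_commute z (fun r => Commute.all z r) _))
      (Commute.mul_right (Matrix.scalar_commute w (fun r => Commute.all w r) _).symm (Commute.refl _))
  have hZn : ∀ z, IsNilpotent (Z z) := fun z =>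
    Commute.isNilpotent_mul_left (Matrix.scalar_commute z (fun r => Commute.all z r) _) (isNilpotent_shiftMat hd)
  have hadjZ : ∀ z, adj σ (1 + Z z) = 1 + Z (σ z) := fun z => by
    simp only [Z]
    rw [adj_add, adj_one, adj_mul, adj_scalar, adj_shiftMat,
      (Matrix.scalar_commute (σ z) (fun r => Commute.all _ r) _).eq]
  have hU : ∀ z, IsUnit (1 + Z z) := fun z => (hZn z).isUnit_one_add
  obtain ⟨V, hV⟩ := hU (σ lam)
  obtain ⟨V₁, hV₁⟩ := hU lam
  have hVV : Commute (V : Matrix (JI d) (JI d) K) (V₁ : Matrix (JI d) (JI d) K) := by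
    rw [hV, hV₁]
    exact ((Commute.one_left _).add_left ((Commute.one_right _).add_right (hZc _ _)))
  set W : Matrix (JI d) (JI d) K := V₁ * ((V⁻¹ : (Matrix (JI d) (JI d) K)ˣ) : Matrix (JI d) (JI d) K) with hW
  have hadjW : adj σ W * W = 1 := by
    have h1 : adj σ (V : Matrix (JI d) (JI d) K) = V₁ := by rw [hV, hadjZ, hσσ, hV₁]
    have h2 : adj σ (V₁ : Matrix (JI d) (JI d) K) = V := by rw [hV₁, hadjZ, hV]
    have h3 : adj σ ((V⁻¹ : (Matrix (JI d) (JI d) K)ˣ) : Matrix (JI d) (JI d) K) =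
        ((V₁⁻¹ : (Matrix (JI d) (JI d) K)ˣ) : Matrix (JI d) (JI d) K) := by
      refine (left_inv_eq_right_inv (a := (V₁ : Matrix (JI d) (JI d) K)) ?_ V₁.mul_inv)
      rw [← h1, ← adj_mul, V.mul_inv, adj_one]
    rw [hW, adj_mul, h2, h3]
    calc ((V₁⁻¹ : (Matrix (JI d) (JI d) K)ˣ) : Matrix (JI d) (JI d) K) * V *
          ((V₁ : Matrix (JI d) (JI d) K) * ((V⁻¹ : (Matrix (JI d) (JI d) K)ˣ) : Matrix (JI d) (JI d) K))
        = ((V₁⁻¹ : (Matrix (JI d) (JI d) K)ˣ) : Matrix (JI d) (JI d) K) *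
            ((V : Matrix (JI d) (JI d) K) * V₁) * ((V⁻¹ : (Matrix (JI d) (JI d) K)ˣ) : Matrix (JI d) (JI d) K) := by
          simp only [mul_assoc]
      _ = 1 := by rw [hVV.eq, ← mul_assoc, V₁.inv_mul, one_mul, V.mul_inv]
  have hW1 : (W - 1) * V = Z (lam - σ lam) := by
    rw [hW, sub_mul, mul_assoc, V.inv_mul, mul_one, one_mul, hV, hV₁]
    simp only [Z, map_sub, sub_mul]; abel
  have hsU : IsUnit (Matrix.scalar (JI d) (lam - σ lam)) :=
    (isUnit_iff_ne_zero.2 (sub_ne_zero.2 (Ne.symm hlam))).map _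
  have hSV : Commute (shiftMat d K) (V : Matrix (JI d) (JI d) K) := by
    rw [hV]
    exact (Commute.one_right _).add_right
      (Commute.mul_right (Matrix.scalar_commute _ (fun r => Commute.all _ r) _).symm (Commute.refl _))
  have hWS : ∀ a : Matrix (JI d) (JI d) K, a * W = W * a ↔ a ∈ commutant d K := by
    intro a
    rw [mem_commutant_iff]
    constructor
    · intro h
      -- the shift is `T⁻¹ (W - 1)` with `T` a polynomial in `W`
      set T := Matrix.scalar (JI d) (lam - σ lam) - Matrix.scalar (JI d) (σ lam) * (W - 1) with hT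
      have hTS : T * shiftMat d K = W - 1 := by
        have := hW1
        rw [hV] at this
        simp only [Z, mul_add, mul_one] at this
        rw [hT, sub_mul, ← this, ← mul_assoc (W - 1),
          ← (Matrix.scalar_commute (σ lam) (fun r => Commute.all _ r) (W - 1)).eq]
        abel
      have hN : IsNilpotent (W - 1) := by
        have : W - 1 = Z (lam - σ lam) * ((V⁻¹ : (Matrix (JI d) (JI d) K)ˣ) : Matrix (JI d) (JI d) K) := by
          rw [← hW1, mul_assoc, V.mul_inv, mul_one]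
        rw [this]
        refine Commute.isNilpotent_mul_right ?_ (hZn _)
        exact (Commute.mul_left (Matrix.scalar_commute _ (fun r => Commute.all _ r) _) hSV).units_inv_right
      have hTu : IsUnit T := by
        rw [hT, sub_eq_add_neg]
        refine IsNilpotent.isUnit_add_left_of_commute ?_ hsU ?_
        · exact (Commute.isNilpotent_mul_left (Matrix.scalar_commute _ (fun r => Commute.all _ r) _) hN).neg
        · exact (Matrix.scalar_commute _ (fun r => Commute.all _ r) _).symm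
      have haW : Commute a (W - 1) := Commute.sub_right h (Commute.one_right _)
      have haT : Commute a T := by
        rw [hT]
        exact ((Matrix.scalar_commute _ (fun r => Commute.all _ r) a).symm).sub_right
          (Commute.mul_right (Matrix.scalar_commute _ (fun r => Commute.all _ r) a).symm haW)
      refine hTu.mul_left_cancel ?_
      rw [← mul_assoc, hTS, ← mul_assoc, ← haT.eq, mul_assoc, hTS]
      exact haW.eq.symm
    · intro h
      have ha : ∀ z, Commute a (1 + Z z) := fun z =>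
        (Commute.one_right _).add_right
          (Commute.mul_right (Matrix.scalar_commute _ (fun r => Commute.all _ r) a).symm h.symm)
      have h1 : Commute a (V₁ : Matrix (JI d) (JI d) K) := hV₁ ▸ ha lam
      have h2 : Commute a (V : Matrix (JI d) (JI d) K) := hV ▸ ha _
      exact (h1.mul_right h2.units_inv_right).eq
  -- change of form
  obtain ⟨a₀, ha₀⟩ := exists_sigma_ne hK hσ
  obtain ⟨c, -, hcu, -, hcP⟩ := exists_norm_eq_of_anti (tauI σ) (tauI_add σ) (tauI_mul σ) (tauI_one σ)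
    (Set.range (Matrix.scalar (JI d)) ∪ {pMat d K})
    (by
      rintro x (⟨z, rfl⟩ | rfl) y (⟨w, rfl⟩ | rfl)
      · rw [← map_mul, ← map_mul, mul_comm]
      · exact (Matrix.scalar_commute z (fun r => Commute.all z r) _).eq
      · exact (Matrix.scalar_commute w (fun r => Commute.all w r) _).eq.symm
      · rfl)
    (by
      rintro x (⟨z, rfl⟩ | rfl)
      · rw [tauI_scalar]; exact Subring.subset_closure (Or.inl ⟨_, rfl⟩)
      · rw [tauI_pMat]; exact Subring.subset_closure (Or.inr rfl))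
    (fun x _ => tauI_tauI hσσ x)
    (lam := Matrix.scalar (JI d) a₀) (Subring.subset_closure (Or.inl ⟨a₀, rfl⟩))
    (by
      rw [tauI_scalar, ← map_sub]
      exact (isUnit_iff_ne_zero.2 (sub_ne_zero.2 ha₀.symm)).map _)
    (Subring.subset_closure (Or.inr rfl)) (isUnit_iff_exists.2 ⟨_, pMat_mul_pMat, pMat_mul_pMat⟩) (tauI_pMat σ)
  obtain ⟨C, rfl⟩ := hcu
  set c' : Matrix (JI d) (JI d) K := ((C⁻¹ : (Matrix (JI d) (JI d) K)ˣ) : Matrix (JI d) (JI d) K)
  let R := Matrix.reindexAlgEquiv K K e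
  have hRtau : ∀ M, tau σ (R M) = R (tauI σ M) := fun M => rfl
  have hconjU : ∀ a : Matrix (JI d) (JI d) K,
      tau σ (R ((C : Matrix (JI d) (JI d) K) * a * c')) * R ((C : Matrix (JI d) (JI d) K) * a * c') = 1 ↔
        adj σ a * a = 1 := by
    intro a
    rw [hRtau, ← map_mul, map_eq_one_iff _ R.injective]
    have e1 : tauI σ ((C : Matrix (JI d) (JI d) K) * a * c') * ((C : Matrix (JI d) (JI d) K) * a * c') =
        tauI σ c' * (pMat d K * (adj σ a * a)) * c' := by
      rw [tauI_mul, tauI_mul]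
      calc tauI σ c' * (tauI σ a * tauI σ (C : Matrix (JI d) (JI d) K)) * ((C : Matrix (JI d) (JI d) K) * a * c')
          = tauI σ c' * (tauI σ a * (tauI σ (C : Matrix (JI d) (JI d) K) * C) * a) * c' := by simp only [mul_assoc]
        _ = _ := by
          rw [hcP, adj]
          congr 2
          simp only [← mul_assoc, pMat_mul_pMat, one_mul]
    have e2 : tauI σ c' * pMat d K * c' = 1 := by
      rw [← hcP]
      calc tauI σ c' * (tauI σ (C : Matrix (JI d) (JI d) K) * C) * c'
          = tauI σ ((C : Matrix (JI d) (JI d) K) * c') * ((C : Matrix (JI d) (JI d) K) * c') := by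
            rw [tauI_mul]; simp only [mul_assoc]
        _ = 1 := by simp [c', tauI_one]
    rw [e1]
    constructor
    · intro h
      have hc'u : IsUnit c' := (C⁻¹).isUnit
      have htu : IsUnit (tauI σ c' * pMat d K) := IsUnit.of_mul_eq_one c' e2
      refine htu.mul_left_cancel (hc'u.mul_right_cancel ?_)
      rw [mul_one, e2, ← h]; simp only [mul_assoc]
    · intro h
      rw [h, mul_one, e2]
  have hWu : tau σ (R ((C : Matrix (JI d) (JI d) K) * W * c')) * R ((C : Matrix (JI d) (JI d) K) * W * c') = 1 :=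
    (hconjU W).2 hadjW
  let g : Cfsg.GU n K q := ⟨⟨_, _, mul_eq_one_comm.1 hWu, hWu⟩, (mem_GU_iff hσ hσσ _).2 hWu⟩
  have hg : ((g : GL (Fin n) K) : Matrix (Fin n) (Fin n) K) = R ((C : Matrix (JI d) (JI d) K) * W * c') := rfl
  refine ⟨g, C, c', by simp [c'], by simp [c'], ?_, ?_⟩
  · have hWn : W - 1 = Matrix.scalar (JI d) (lam - σ lam) * shiftMat d K *
        ((V⁻¹ : (Matrix (JI d) (JI d) K)ˣ) : Matrix (JI d) (JI d) K) := by
      rw [show Matrix.scalar (JI d) (lam - σ lam) * shiftMat d K = Z (lam - σ lam) from rfl, ← hW1, mul_assoc,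
        V.mul_inv, mul_one]
    have hpowW : ∀ k, ((W - 1) ^ k).rank = ((shiftMat d K) ^ k).rank := by
      intro k
      have hc1 : Commute (Matrix.scalar (JI d) (lam - σ lam) * shiftMat d K)
          ((V⁻¹ : (Matrix (JI d) (JI d) K)ˣ) : Matrix (JI d) (JI d) K) :=
        (Commute.mul_left (Matrix.scalar_commute _ (fun r => Commute.all _ r) _) hSV).units_inv_right
      rw [hWn, hc1.mul_pow, (Matrix.scalar_commute (lam - σ lam) (fun r => Commute.all _ r) (shiftMat d K)).mul_pow]
      rw [Matrix.rank_mul_eq_left_of_isUnit_det _ _ ((Matrix.isUnit_iff_isUnit_det _).1 ((V⁻¹).isUnit.pow k)),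
        Matrix.rank_mul_eq_right_of_isUnit_det _ _ ((Matrix.isUnit_iff_isUnit_det _).1 (hsU.pow k))]
    have hSn : IsNilpotent (Matrix.reindex e e (shiftMat d K)) := (isNilpotent_shiftMat hd).map R
    have hRC : IsConj (R (W - 1)) (R ((C : Matrix (JI d) (JI d) K) * W * c') - 1) := by
      refine IsConj.trans (b := R ((C : Matrix (JI d) (JI d) K) * (W - 1) * c')) ?_ ?_
      · refine ⟨Units.map R.toMonoidHom C, ?_⟩
        show R (C : Matrix (JI d) (JI d) K) * R (W - 1) = R _ * R (C : Matrix (JI d) (JI d) K)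
        rw [← map_mul, ← map_mul]
        congr 1
        simp [c', mul_assoc]
      · rw [mul_sub, sub_mul, map_sub, mul_one, Units.mul_inv, map_one]
    refine IsConj.trans (isConj_of_rank hSn ?_ fun k => ?_) hRC
    · obtain ⟨N, hN⟩ := isNilpotent_shiftMat (K := K) hd
      refine ⟨N, eq_zero_of_rank ?_⟩
      show ((Matrix.reindex e e (W - 1)) ^ N).rank = 0
      rw [rank_reindex_pow, hpowW, hN, Matrix.rank_zero]
    · show _ = ((Matrix.reindex e e (W - 1)) ^ k).rank
      rw [rank_reindex_pow, rank_reindex_pow, hpowW]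
  · have hmem : ∀ a : Matrix (JI d) (JI d) K,
        R ((C : Matrix (JI d) (JI d) K) * a * c') * R ((C : Matrix (JI d) (JI d) K) * W * c') =
          R ((C : Matrix (JI d) (JI d) K) * W * c') * R ((C : Matrix (JI d) (JI d) K) * a * c') ↔
        a * W = W * a := by
      intro a
      rw [← map_mul, ← map_mul, R.injective.eq_iff]
      have : ∀ x y : Matrix (JI d) (JI d) K, (C : Matrix (JI d) (JI d) K) * x * c' *
          ((C : Matrix (JI d) (JI d) K) * y * c') = (C : Matrix (JI d) (JI d) K) * (x * y) * c' := fun x y => by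
        simp [c', mul_assoc]
      rw [this, this, (C⁻¹).isUnit.mul_left_inj, C.isUnit.mul_right_inj]
    refine ⟨{ toFun := fun a => ⟨⟨⟨_, _, mul_eq_one_comm.1 ((hconjU a.1).2 a.2.2), (hconjU a.1).2 a.2.2⟩,
                (mem_GU_iff hσ hσσ _).2 ((hconjU a.1).2 a.2.2)⟩,
              Subgroup.mem_centralizer_singleton_iff.2 (Subtype.ext (Units.ext
                ((hmem a.1).2 ((hWS a.1).2 a.2.1))))⟩
              invFun := fun x => ⟨c' * R.symm (x.1 : GL (Fin n) K).1 * C, ?_, ?_⟩
              left_inv := fun a => Subtype.ext ?_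
              right_inv := fun x => Subtype.ext (Subtype.ext (Units.ext ?_)) }, fun a => rfl⟩
    · have e1 : R ((C : Matrix (JI d) (JI d) K) * (c' * R.symm (x.1 : GL (Fin n) K).1 * C) * c') =
          (x.1 : GL (Fin n) K).1 := by
        simp [c', mul_assoc]
      refine (hWS _).1 ((hmem _).1 ?_)
      rw [e1]
      exact congrArg (fun y : Cfsg.GU n K q => (y : GL (Fin n) K).1) (Subgroup.mem_centralizer_singleton_iff.1 x.2)
    · have e1 : R ((C : Matrix (JI d) (JI d) K) * (c' * R.symm (x.1 : GL (Fin n) K).1 * C) * c') =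
          (x.1 : GL (Fin n) K).1 := by
        simp [c', mul_assoc]
      refine (hconjU _).1 ?_
      rw [e1]
      exact (mem_GU_iff hσ hσσ _).1 x.1.2
    · show c' * R.symm (R ((C : Matrix (JI d) (JI d) K) * a.1 * c')) * C = a.1
      simp [c', mul_assoc]
    · show R ((C : Matrix (JI d) (JI d) K) * (c' * R.symm (x.1 : GL (Fin n) K).1 * C) * c') = _
      simp [c', mul_assoc]

end Finite

end CfsgLib.UnipotentJordan
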