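import Cfsg.Agent.UnipotentJordan.Commutant
import Cfsg.Agent.InvNorm.Basic
import Cfsg.Agent.Forms.UnitaryOrder
import Cfsg.Agent.InvNorm.Hermitian

/-!
Counting invertible and unitary elements of the commutant.
-/

set_option autoImplicit false

namespace CfsgLib.UnipotentJordan

open Finset Matrix

variable {t : ℕ} {d : Fin t → ℕ} {K : Type*} [Field K]

theorem subring_isUnit {R : Type*} [Ring R] [Finite R] (S : Subring R) {x : S} (h : IsUnit (x : R)) :
    IsUnit x := by
  have hinj : Function.Injective (fun y : S => x * y) := fun a b e =>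
    Subtype.ext (h.mul_left_cancel (congrArg Subtype.val e :))
  obtain ⟨y, hy⟩ := Finite.injective_iff_surjective.1 hinj 1
  have hy' : y * x = 1 := by
    refine hinj ?_
    show x * (y * x) = x * 1
    rw [← mul_assoc, show x * y = 1 from hy, one_mul, mul_one]
  exact ⟨⟨x, y, hy, hy'⟩, rfl⟩

variable (d) in
/-- The block matrices as a product of full matrix rings. -/
def blkEquiv (D : ℕ) (hD : ∀ k, d k ≤ D) :
    blk d K ≃+* ((i : Fin (D + 1)) → Matrix {k // d k = (i : ℕ)} {k // d k = (i : ℕ)} K) where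
  toFun M i := Matrix.of fun a b => M.1 a.1 b.1
  invFun N := ⟨Matrix.of fun l k => if h : d l = d k then
      N ⟨d l, by have := hD l; omega⟩ ⟨l, rfl⟩ ⟨k, h.symm⟩ else 0,
    fun l k h => by simp [h]⟩
  left_inv M := by
    refine Subtype.ext (Matrix.ext fun l k => ?_)
    simp only [Matrix.of_apply]
    split_ifs with h
    · rfl
    · exact (M.2 l k h).symm
  right_inv N := by
    funext ⟨i, hi⟩
    ext ⟨a, ha⟩ ⟨b, hb⟩
    simp only at ha hb
    subst ha
    simp only [Matrix.of_apply]
    rw [dif_pos hb.symm]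
  map_add' M N := rfl
  map_mul' M N := by
    funext i
    ext a b
    simp only [Pi.mul_apply, Matrix.mul_apply, Matrix.of_apply, Subring.coe_mul]
    refine (Finset.sum_subset_zero_on_sdiff (Finset.subset_univ
      (Finset.univ.filter fun k => d k = (i : ℕ))) ?_ (fun _ _ => rfl)).symm.trans ?_
    · intro k hk
      have : d k ≠ (i : ℕ) := by simpa using hk
      rw [M.2 a.1 k (fun e => this (e ▸ a.2)), zero_mul]
    · exact Finset.sum_subtype _ (fun x => by simp) _

theorem natCard_blk (D : ℕ) (hD : ∀ k, d k ≤ D) [Finite K] :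
    Nat.card (blk d K) =
      Nat.card K ^ ∑ i ∈ Finset.range (D + 1), (Finset.univ.filter fun k => d k = i).card ^ 2 := by
  classical
  rw [Nat.card_congr (blkEquiv d D hD).toEquiv, Nat.card_pi, ← Finset.prod_pow_eq_pow_sum,
    ← Fin.prod_univ_eq_prod_range (fun i => Nat.card K ^ (Finset.univ.filter fun k => d k = i).card ^ 2)]
  refine Finset.prod_congr rfl fun i _ => ?_
  rw [show Nat.card (Matrix {k // d k = (i : ℕ)} {k // d k = (i : ℕ)} K) =
      Nat.card ({k // d k = (i : ℕ)} → {k // d k = (i : ℕ)} → K) from rfl,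
    Nat.card_fun, Nat.card_fun, ← pow_mul, sq, Nat.card_eq_fintype_card (α := {k // d k = (i : ℕ)}),
    Fintype.card_subtype]

theorem natCard_blk_units (D : ℕ) (hD : ∀ k, d k ≤ D) [Fintype K] :
    Nat.card {M : blk d K // IsUnit (M : Matrix (Fin t) (Fin t) K)} =
      ∏ i ∈ Finset.range (D + 1), ∏ j : Fin (Finset.univ.filter fun k => d k = i).card,
        (Fintype.card K ^ (Finset.univ.filter fun k => d k = i).card - Fintype.card K ^ (j : ℕ)) := by
  classical
  have e1 : {M : blk d K // IsUnit (M : Matrix (Fin t) (Fin t) K)} ≃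
      ((i : Fin (D + 1)) → (Matrix {k // d k = (i : ℕ)} {k // d k = (i : ℕ)} K)ˣ) :=
    (Equiv.ofBijective
      (fun u : (blk d K)ˣ => (⟨u, u.isUnit.map (blk d K).subtype⟩ :
        {M : blk d K // IsUnit (M : Matrix (Fin t) (Fin t) K)}))
      ⟨fun a b h => Units.ext (congrArg Subtype.val h),
        fun M => ⟨(subring_isUnit _ M.2).unit, rfl⟩⟩).symm.trans
      (((Units.mapEquiv (blkEquiv d D hD).toMulEquiv).trans MulEquiv.piUnits).toEquiv)
  rw [Nat.card_congr e1, Nat.card_pi, ← Fin.prod_univ_eq_prod_range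
    (fun i => ∏ j : Fin (Finset.univ.filter fun k => d k = i).card,
      (Fintype.card K ^ (Finset.univ.filter fun k => d k = i).card - Fintype.card K ^ (j : ℕ)))]
  refine Finset.prod_congr rfl fun i _ => ?_
  rw [Nat.card_congr ((Matrix.reindexAlgEquiv K K (Fintype.equivFinOfCardEq
    (Fintype.card_subtype fun k => d k = (i : ℕ)))).toMulEquiv |> Units.mapEquiv).toEquiv]
  exact Matrix.card_GL_field _

variable (d) in
/-- The kernel of the leading coefficients. -/
def radK (K : Type*) [Field K] : Set (Matrix (JI d) (JI d) K) :=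
  {a | a ∈ commutant d K ∧ lead d a = 0}

theorem natCard_radK_mul (hd : ∀ k, 1 ≤ d k) [Finite K] :
    Nat.card (radK d K) * Nat.card (blk d K) = Nat.card (commutant d K) := by
  rw [← Nat.card_prod]
  refine Nat.card_congr
    { toFun := fun x => ⟨x.1.1 + lift d x.2.1, add_mem x.1.2.1 lift_mem⟩
      invFun := fun a => (⟨a.1 - lift d (lead d a.1), sub_mem a.2 lift_mem, by
          rw [lead_sub, lead_lift hd (lead_mem _), sub_self]⟩, ⟨lead d a.1, lead_mem _⟩)
      left_inv := fun x => by
        have h : lead d (x.1.1 + lift d x.2.1) = x.2.1 := by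
          rw [lead_add, x.1.2.2, zero_add, lead_lift hd x.2.2]
        refine Prod.ext (Subtype.ext ?_) (Subtype.ext h)
        simp [h]
      right_inv := fun a => Subtype.ext (by simp) }

theorem isUnit_of_lead_eq_one (hd : ∀ k, 1 ≤ d k) {a : Matrix (JI d) (JI d) K}
    (ha : a ∈ commutant d K) (h : lead d a = 1) : IsUnit a := by
  have hn := isNilpotent_of_lead_eq_zero (sub_mem ha (one_mem _))
    (show lead d (a - 1) = 0 by rw [lead_sub, h, lead_one hd, sub_self])
  simpa using hn.isUnit_one_add

theorem natCard_lead_one (hd : ∀ k, 1 ≤ d k) :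
    Nat.card {a : Matrix (JI d) (JI d) K // a ∈ commutant d K ∧ lead d a = 1} = Nat.card (radK d K) := by
  refine Nat.card_congr
    { toFun := fun a => ⟨a.1 - 1, sub_mem a.2.1 (one_mem _), by
        rw [lead_sub, a.2.2, lead_one hd, sub_self]⟩
      invFun := fun x => ⟨x.1 + 1, add_mem x.2.1 (one_mem _), by
        rw [lead_add, x.2.2, lead_one hd, zero_add]⟩
      left_inv := fun a => Subtype.ext (sub_add_cancel _ _)
      right_inv := fun x => Subtype.ext (add_sub_cancel_right _ _) }

theorem natCard_commutant_units (hd : ∀ k, 1 ≤ d k) [Finite K] :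
    Nat.card {a : Matrix (JI d) (JI d) K // a ∈ commutant d K ∧ IsUnit a} =
      Nat.card (radK d K) * Nat.card {M : blk d K // IsUnit (M : Matrix (Fin t) (Fin t) K)} := by
  rw [← natCard_lead_one hd, ← Nat.card_prod]
  refine (Nat.card_eq_of_bijective
    (fun x : {a : Matrix (JI d) (JI d) K // a ∈ commutant d K ∧ lead d a = 1} ×
        {M : blk d K // IsUnit (M : Matrix (Fin t) (Fin t) K)} =>
      (⟨lift d x.2.1.1 * x.1.1, mul_mem lift_mem x.1.2.1, by
        refine IsUnit.mul ?_ (isUnit_of_lead_eq_one hd x.1.2.1 x.1.2.2)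
        obtain ⟨u, hu⟩ := subring_isUnit _ x.2.2
        refine isUnit_iff_exists.2 ⟨lift d ((u⁻¹ : (blk d K)ˣ) : blk d K).1, ?_, ?_⟩
        · rw [← lift_mul x.2.1.2, ← hu, ← Subring.coe_mul, Units.mul_inv]; exact lift_one
        · rw [← lift_mul ((u⁻¹ : (blk d K)ˣ) : blk d K).2, ← hu, ← Subring.coe_mul, Units.inv_mul]
          exact lift_one⟩ : {a : Matrix (JI d) (JI d) K // a ∈ commutant d K ∧ IsUnit a}))
    ⟨fun x y e => ?_, fun a => ?_⟩).symm
  · have e' := congrArg Subtype.val e
    simp only at e'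
    have h := congrArg (lead d) e'
    rw [lead_mul lift_mem x.1.2.1, lead_mul lift_mem y.1.2.1, x.1.2.2, y.1.2.2, mul_one, mul_one,
      lead_lift hd x.2.1.2, lead_lift hd y.2.1.2] at h
    have hx : x.2 = y.2 := Subtype.ext (Subtype.ext h)
    rw [← hx] at e'
    obtain ⟨u, hu⟩ := subring_isUnit _ x.2.2
    have := congrArg (fun M => lift d ((u⁻¹ : (blk d K)ˣ) : blk d K).1 * M) e'
    simp only [← mul_assoc, ← lift_mul ((u⁻¹ : (blk d K)ˣ) : blk d K).2, ← hu, ← Subring.coe_mul,
      Units.inv_mul, Subring.coe_one, lift_one, one_mul] at this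
    exact Prod.ext (Subtype.ext this) hx
  · obtain ⟨a, ha, hu⟩ := a
    obtain ⟨u, hu'⟩ := subring_isUnit (commutant d K) (x := ⟨a, ha⟩) hu
    have hb : lead d ((u⁻¹ : (commutant d K)ˣ) : commutant d K).1 * lead d a = 1 ∧
        lead d a * lead d ((u⁻¹ : (commutant d K)ˣ) : commutant d K).1 = 1 := by
      have h1 := congrArg Subtype.val hu'
      simp only at h1
      rw [← h1, ← lead_mul (SetLike.coe_mem _) (SetLike.coe_mem _), ← lead_mul (SetLike.coe_mem _) (SetLike.coe_mem _),
        ← Subring.coe_mul, ← Subring.coe_mul, Units.inv_mul, Units.mul_inv]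
      exact ⟨lead_one hd, lead_one hd⟩
    let b := lead d ((u⁻¹ : (commutant d K)ˣ) : commutant d K).1
    refine ⟨(⟨lift d b * a, mul_mem lift_mem ha, ?_⟩, ⟨⟨lead d a, lead_mem _⟩,
      isUnit_iff_exists.2 ⟨b, hb.2, hb.1⟩⟩), Subtype.ext ?_⟩
    · rw [lead_mul lift_mem ha, lead_lift hd (lead_mem _)]; exact hb.1
    · show lift d (lead d a) * (lift d b * a) = a
      rw [← mul_assoc, ← lift_mul (lead_mem _), hb.2, lift_one, one_mul]

theorem exponent_identity (hd : ∀ k, 1 ≤ d k) (D : ℕ) (hD : ∀ k, d k ≤ D) :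
    ∑ k : Fin t, ∑ l : Fin t, min (d k) (d l) =
      (2 * (∑ i ∈ Finset.range (D + 1), ∑ j ∈ Finset.range (D + 1), if i < j then
          i * (Finset.univ.filter (fun k : Fin t => d k = i)).card *
            (Finset.univ.filter (fun k : Fin t => d k = j)).card else 0) +
        ∑ i ∈ Finset.range (D + 1), (i - 1) * (Finset.univ.filter (fun k : Fin t => d k = i)).card ^ 2) +
      ∑ i ∈ Finset.range (D + 1), (Finset.univ.filter (fun k : Fin t => d k = i)).card ^ 2 := by
  set a : ℕ → ℕ := fun i => (Finset.univ.filter (fun k : Fin t => d k = i)).card with ha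
  have hgroup : ∀ g : ℕ → ℕ, ∑ k : Fin t, g (d k) = ∑ i ∈ Finset.range (D + 1), a i * g i := by
    intro g
    rw [← Finset.sum_fiberwise_of_maps_to (g := d) (t := Finset.range (D + 1))
      (fun k _ => Finset.mem_range.2 (Nat.lt_succ_of_le (hD k)))]
    refine Finset.sum_congr rfl fun i _ => ?_
    rw [Finset.sum_congr rfl (fun k hk => by rw [(Finset.mem_filter.1 hk).2]), Finset.sum_const,
      smul_eq_mul]
  have ha0 : a 0 = 0 := by
    simp only [ha, Finset.card_eq_zero, Finset.filter_eq_empty_iff]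
    intro k _
    have := hd k
    omega
  rw [hgroup fun x => ∑ l : Fin t, min x (d l)]
  rw [Finset.sum_congr rfl fun i _ => by rw [hgroup fun y => min i y, Finset.mul_sum]]
  have hswap : (∑ i ∈ Finset.range (D + 1), ∑ j ∈ Finset.range (D + 1),
      if j < i then j * a i * a j else 0) =
      ∑ i ∈ Finset.range (D + 1), ∑ j ∈ Finset.range (D + 1), if i < j then i * a i * a j else 0 := by
    rw [Finset.sum_comm]
    exact Finset.sum_congr rfl fun i _ => Finset.sum_congr rfl fun j _ => by split_ifs <;> ring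
  have hdiag : ∀ i ∈ Finset.range (D + 1),
      (∑ j ∈ Finset.range (D + 1), if i = j then i * a i ^ 2 else 0) = (i - 1) * a i ^ 2 + a i ^ 2 := by
    intro i hi
    rw [Finset.sum_ite_eq, if_pos hi]
    rcases Nat.eq_zero_or_pos i with rfl | hp
    · simp [ha0]
    · obtain ⟨j, rfl⟩ : ∃ j, i = j + 1 := ⟨i - 1, by omega⟩
      rw [Nat.add_sub_cancel]; ring
  calc ∑ i ∈ Finset.range (D + 1), ∑ j ∈ Finset.range (D + 1), a i * (a j * min i j)
      = ∑ i ∈ Finset.range (D + 1), ∑ j ∈ Finset.range (D + 1),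
          ((if i < j then i * a i * a j else 0) + (if j < i then j * a i * a j else 0) +
            (if i = j then i * a i ^ 2 else 0)) := by
        refine Finset.sum_congr rfl fun i _ => Finset.sum_congr rfl fun j _ => ?_
        rcases lt_trichotomy i j with h | rfl | h
        · rw [if_pos h, if_neg (by omega), if_neg (by omega), min_eq_left h.le]; ring
        · simp only [lt_irrefl, if_false, if_true, min_self]; ring
        · rw [if_neg (by omega), if_pos h, if_neg (by omega), min_eq_right h.le]; ring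
    _ = _ := by
        simp only [Finset.sum_add_distrib]
        rw [Finset.sum_congr rfl hdiag, hswap, Finset.sum_add_distrib]

        ring

theorem natCard_radK (hd : ∀ k, 1 ≤ d k) [Finite K] (D : ℕ) (hD : ∀ k, d k ≤ D) :
    Nat.card (radK d K) = Nat.card K ^
      (2 * (∑ i ∈ Finset.range (D + 1), ∑ j ∈ Finset.range (D + 1), if i < j then
          i * (Finset.univ.filter (fun k : Fin t => d k = i)).card *
            (Finset.univ.filter (fun k : Fin t => d k = j)).card else 0) +
        ∑ i ∈ Finset.range (D + 1), (i - 1) * (Finset.univ.filter (fun k : Fin t => d k = i)).card ^ 2) := by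
  have h := natCard_radK_mul (K := K) hd
  rw [natCard_blk D hD, natCard_commutant hd, exponent_identity hd D hD, pow_add] at h
  exact Nat.eq_of_mul_eq_mul_right (pow_pos Nat.card_pos _) h

end CfsgLib.UnipotentJordan
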