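import Mathlib
import Cfsg.Prelude.Def_JordanBlocks

/-!
The commutant of the nilpotent matrix of a Jordan type: coordinates, and the homomorphism onto the
block matrices given by the leading coefficients.
-/

set_option autoImplicit false

namespace CfsgLib.UnipotentJordan

open Finset Matrix

variable {t : ℕ} (d : Fin t → ℕ) {K : Type*} [Field K]

/-- Index type of a Jordan type. -/
abbrev JI : Type := (k : Fin t) × Fin (d k)

/-- The nilpotent matrix of a Jordan type. -/
def shiftMat (K : Type*) [Field K] : Matrix (JI d) (JI d) K :=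
  Matrix.of fun p r => if p.1 = r.1 ∧ (p.2 : ℕ) = r.2 + 1 then 1 else 0

theorem jordanTypeMatrix_eq : Cfsg.jordanTypeMatrix d K = 1 + shiftMat d K := by
  ext ⟨l, i⟩ ⟨k, j⟩
  rw [Cfsg.jordanTypeMatrix, Matrix.blockDiagonal'_apply, Matrix.add_apply, Matrix.one_apply,
    shiftMat, Matrix.of_apply]
  by_cases h : l = k
  · subst h
    simp only [dif_pos, Cfsg.jordanBlock, Matrix.of_apply, cast_eq, true_and, Sigma.mk.injEq,
      heq_eq_eq, Fin.ext_iff]
    split_ifs <;> simp_all
  · simp [h]

/-- The entry at natural number indices. -/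
def ent (a : Matrix (JI d) (JI d) K) (l : Fin t) (i : ℕ) (k : Fin t) (j : ℕ) : K :=
  if h : i < d l ∧ j < d k then a ⟨l, ⟨i, h.1⟩⟩ ⟨k, ⟨j, h.2⟩⟩ else 0

variable {d}

theorem ent_val (a : Matrix (JI d) (JI d) K) (p r : JI d) : ent d a p.1 p.2 r.1 r.2 = a p r := by
  simp [ent]

theorem ent_eq_zero (a : Matrix (JI d) (JI d) K) {l : Fin t} {i : ℕ} {k : Fin t} {j : ℕ}
    (h : ¬ (i < d l ∧ j < d k)) : ent d a l i k j = 0 := dif_neg h

theorem shiftMat_mul_apply (a : Matrix (JI d) (JI d) K) (p r : JI d) :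
    (shiftMat d K * a) p r = if (p.2 : ℕ) = 0 then 0 else ent d a p.1 ((p.2 : ℕ) - 1) r.1 r.2 := by
  obtain ⟨l, i⟩ := p
  rw [Matrix.mul_apply]
  split_ifs with h
  · refine Finset.sum_eq_zero fun x _ => ?_
    simp [shiftMat, show (i : ℕ) = 0 from h]
  · have hi : (i : ℕ) - 1 < d l := by omega
    rw [Finset.sum_eq_single (⟨l, ⟨(i : ℕ) - 1, hi⟩⟩ : JI d)]
    · simp only at h
      rw [ent, dif_pos ⟨hi, r.2.isLt⟩, shiftMat, Matrix.of_apply,
        if_pos ⟨rfl, by simp; omega⟩, one_mul]
    · rintro ⟨m, x⟩ _ hx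
      rw [shiftMat, Matrix.of_apply, if_neg, zero_mul]
      rintro ⟨hm, hxv⟩
      simp only at hm hxv
      subst hm
      exact hx (by simp [Fin.ext_iff]; omega)
    · simp

theorem mul_shiftMat_apply (a : Matrix (JI d) (JI d) K) (p r : JI d) :
    (a * shiftMat d K) p r = ent d a p.1 p.2 r.1 ((r.2 : ℕ) + 1) := by
  obtain ⟨k, j⟩ := r
  rw [Matrix.mul_apply]
  by_cases h : (j : ℕ) + 1 < d k
  · rw [Finset.sum_eq_single (⟨k, ⟨(j : ℕ) + 1, h⟩⟩ : JI d)]
    · simp only
      rw [ent, dif_pos ⟨p.2.isLt, h⟩, shiftMat, Matrix.of_apply, if_pos ⟨rfl, rfl⟩, mul_one]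
    · rintro ⟨m, x⟩ _ hx
      rw [shiftMat, Matrix.of_apply, if_neg, mul_zero]
      rintro ⟨hm, hxv⟩
      simp only at hm hxv
      subst hm
      exact hx (by simp [Fin.ext_iff]; omega)
    · simp
  · rw [ent_eq_zero a (fun h' => h h'.2)]
    refine Finset.sum_eq_zero fun x _ => ?_
    rw [shiftMat, Matrix.of_apply, if_neg, mul_zero]
    rintro ⟨hm, hxv⟩
    obtain ⟨m, x⟩ := x
    simp only at hm hxv
    subst hm
    omega

variable (d) (K)

/-- The commutant of the nilpotent matrix. -/
def commutant : Subring (Matrix (JI d) (JI d) K) :=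
  Subring.centralizer {shiftMat d K}

variable {d} {K}

theorem mem_commutant_iff {a : Matrix (JI d) (JI d) K} :
    a ∈ commutant d K ↔ shiftMat d K * a = a * shiftMat d K := by
  simp [commutant, Subring.mem_centralizer_iff]

theorem mem_commutant_iff_ent {a : Matrix (JI d) (JI d) K} :
    a ∈ commutant d K ↔ ∀ (l k : Fin t) (i j : ℕ), i < d l → j < d k →
      ent d a l i k (j + 1) = if i = 0 then 0 else ent d a l (i - 1) k j := by
  rw [mem_commutant_iff]
  constructor
  · intro h l k i j hi hj
    have := congrFun (congrFun h (⟨l, ⟨i, hi⟩⟩ : JI d)) (⟨k, ⟨j, hj⟩⟩ : JI d)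
    rw [shiftMat_mul_apply, mul_shiftMat_apply] at this
    exact this.symm
  · intro h
    ext p r
    rw [shiftMat_mul_apply, mul_shiftMat_apply]
    exact (h p.1 r.1 p.2 r.2 p.2.isLt r.2.isLt).symm

theorem ent_commutant {a : Matrix (JI d) (JI d) K} (ha : a ∈ commutant d K) (l k : Fin t) :
    ∀ j i : ℕ, i < d l → j < d k →
      ent d a l i k j = if j ≤ i then ent d a l (i - j) k 0 else 0
  | 0, i, _, _ => by simp
  | j + 1, i, hi, hj => by
    rw [mem_commutant_iff_ent.1 ha l k i j hi (by omega)]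
    by_cases h : i = 0
    · subst h; simp
    · rw [if_neg h, ent_commutant ha l k j (i - 1) (by omega) (by omega),
        show i - 1 - j = i - (j + 1) by omega]
      exact if_congr (by omega) rfl rfl

theorem ent_commutant_zero {a : Matrix (JI d) (JI d) K} (ha : a ∈ commutant d K) (l k : Fin t)
    {i : ℕ} (h : i + d k < d l) : ent d a l i k 0 = 0 := by
  by_cases hk : d k = 0
  · exact ent_eq_zero a (by omega)
  · have h1 := mem_commutant_iff_ent.1 ha l k (i + d k) (d k - 1) h (by omega)
    rw [ent_eq_zero a (by omega), if_neg (by omega),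
      ent_commutant ha l k (d k - 1) (i + d k - 1) (by omega) (by omega), if_pos (by omega),
      show i + d k - 1 - (d k - 1) = i by omega] at h1
    exact h1.symm

variable (d) in
/-- The free coordinates of the commutant. -/
abbrev Adm : Type := {x : JI d × Fin t // d x.1.1 ≤ (x.1.2 : ℕ) + d x.2}

theorem natCard_adm : Nat.card (Adm d) = ∑ k : Fin t, ∑ l : Fin t, min (d k) (d l) := by
  classical
  rw [Nat.card_eq_fintype_card, Fintype.card_subtype, ← Finset.univ_product_univ,
    Finset.card_filter, Finset.sum_product_right]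
  refine Finset.sum_congr rfl fun k _ => ?_
  rw [← Finset.univ_sigma_univ, Finset.sum_sigma]
  refine Finset.sum_congr rfl fun l _ => ?_
  rw [Fin.sum_univ_eq_sum_range (fun i => if d l ≤ i + d k then 1 else 0), ← Finset.card_filter,
    show (Finset.range (d l)).filter (fun i => d l ≤ i + d k) = Finset.Ico (d l - d k) (d l) by
      ext i; simp; omega, Nat.card_Ico]
  omega

/-- The element of the commutant with given coordinates. -/
def ofCoord (c : Adm d → K) : Matrix (JI d) (JI d) K :=
  Matrix.of fun p r =>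
    if h : (r.2 : ℕ) ≤ p.2 ∧ d p.1 ≤ (p.2 : ℕ) - r.2 + d r.1 then
      c ⟨(⟨p.1, ⟨(p.2 : ℕ) - r.2, by omega⟩⟩, r.1), h.2⟩
    else 0

theorem ent_ofCoord (c : Adm d → K) (l k : Fin t) (i j : ℕ) :
    ent d (ofCoord c) l i k j =
      if h : i < d l ∧ j < d k ∧ j ≤ i ∧ d l ≤ i - j + d k then
        c ⟨(⟨l, ⟨i - j, by omega⟩⟩, k), h.2.2.2⟩ else 0 := by
  unfold ent ofCoord
  split_ifs with h1 h2 h2
  · simp [h2.2.2.1, h2.2.2.2]
  · rw [Matrix.of_apply, dif_neg]; simp; omega
  · omega
  · rfl

theorem ofCoord_mem (c : Adm d → K) : ofCoord c ∈ commutant d K := by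
  rw [mem_commutant_iff_ent]
  intro l k i j hi hj
  rw [ent_ofCoord, ent_ofCoord]
  by_cases h0 : i = 0
  · rw [if_pos h0, dif_neg (by omega)]
  · rw [if_neg h0]
    split_ifs with h1 h2 h2
    · congr 1; simp [Fin.ext_iff]; omega
    · omega
    · exfalso; omega
    · rfl

/-- The coordinates of the commutant. -/
def coordEquiv (hd : ∀ k, 1 ≤ d k) : commutant d K ≃ (Adm d → K) where
  toFun a x := ent d a.1 x.1.1.1 x.1.1.2 x.1.2 0
  invFun c := ⟨ofCoord c, ofCoord_mem c⟩
  left_inv a := by
    refine Subtype.ext (Matrix.ext fun p r => ?_)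
    show ofCoord (fun x : Adm d => ent d a.1 x.1.1.1 x.1.1.2 x.1.2 0) p r = a.1 p r
    rw [← ent_val a.1 p r, ent_commutant a.2 _ _ _ _ p.2.isLt r.2.isLt]
    simp only [ofCoord, Matrix.of_apply]
    split_ifs with h h' h' <;> try rfl
    · omega
    · exact (ent_commutant_zero a.2 _ _ (by omega)).symm
  right_inv c := by
    funext ⟨⟨⟨l, i⟩, k⟩, hx⟩
    show ent d (ofCoord c) l i k 0 = _
    rw [ent_ofCoord, dif_pos ⟨i.isLt, hd k, by omega, by simpa using hx⟩]
    simp

theorem natCard_commutant (hd : ∀ k, 1 ≤ d k) [Finite K] :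
    Nat.card (commutant d K) = Nat.card K ^ (∑ k : Fin t, ∑ l : Fin t, min (d k) (d l)) := by
  rw [Nat.card_congr (coordEquiv hd), Nat.card_fun, natCard_adm]

/-! ### Leading coefficients -/

variable (d) (K) in
/-- Matrices on the blocks which only join blocks of the same size. -/
def blk : Subring (Matrix (Fin t) (Fin t) K) where
  carrier := {M | ∀ l k, d l ≠ d k → M l k = 0}
  mul_mem' {M N} hM hN l k h := by
    rw [Matrix.mul_apply]
    refine Finset.sum_eq_zero fun m _ => ?_
    by_cases hm : d l = d m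
    · rw [hN m k (hm ▸ h), mul_zero]
    · rw [hM l m hm, zero_mul]
  one_mem' l k h := Matrix.one_apply_ne fun e => h (congrArg d e)
  add_mem' {M N} hM hN l k h := by simp [hM l k h, hN l k h]
  zero_mem' _ _ _ := rfl
  neg_mem' {M} hM l k h := by simp [hM l k h]

variable (d) in
/-- The leading coefficients. -/
def lead (a : Matrix (JI d) (JI d) K) : Matrix (Fin t) (Fin t) K :=
  Matrix.of fun l k => if d l = d k then ent d a l 0 k 0 else 0

variable (d) in
/-- Block matrices as elements of the commutant. -/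
def lift (M : Matrix (Fin t) (Fin t) K) : Matrix (JI d) (JI d) K :=
  Matrix.of fun p r => if (p.2 : ℕ) = r.2 ∧ d p.1 = d r.1 then M p.1 r.1 else 0

theorem lead_mem (a : Matrix (JI d) (JI d) K) : lead d a ∈ blk d K := fun l k h => by
  simp [lead, h]

theorem lead_add (a b : Matrix (JI d) (JI d) K) : lead d (a + b) = lead d a + lead d b := by
  ext l k
  simp only [lead, Matrix.of_apply, Matrix.add_apply, ent]
  split_ifs <;> simp

theorem lead_sub (a b : Matrix (JI d) (JI d) K) : lead d (a - b) = lead d a - lead d b := by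
  rw [eq_sub_iff_add_eq, ← lead_add, sub_add_cancel]

theorem lead_lift (hd : ∀ k, 1 ≤ d k) {M : Matrix (Fin t) (Fin t) K} (hM : M ∈ blk d K) :
    lead d (lift d M) = M := by
  ext l k
  simp only [lead, lift, Matrix.of_apply, ent]
  rw [dif_pos ⟨hd l, hd k⟩]
  by_cases h : d l = d k
  · simp [h]
  · rw [if_neg h, hM l k h]

theorem lead_one (hd : ∀ k, 1 ≤ d k) : lead d (1 : Matrix (JI d) (JI d) K) = 1 := by
  ext l k
  simp only [lead, Matrix.of_apply, ent, Matrix.one_apply]
  rw [dif_pos ⟨hd l, hd k⟩]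
  by_cases h : l = k
  · subst h; simp
  · simp [h]

theorem lift_one : lift d (1 : Matrix (Fin t) (Fin t) K) = 1 := by
  ext ⟨l, i⟩ ⟨k, j⟩
  simp only [lift, Matrix.of_apply, Matrix.one_apply]
  by_cases h : l = k
  · subst h; simp [Fin.ext_iff]
  · simp [h]

theorem lift_mul {M : Matrix (Fin t) (Fin t) K} (hM : M ∈ blk d K) (N : Matrix (Fin t) (Fin t) K) :
    lift d (M * N) = lift d M * lift d N := by
  ext ⟨l, i⟩ ⟨k, j⟩
  simp only [lift, Matrix.of_apply, Matrix.mul_apply]
  rw [← Finset.univ_sigma_univ, Finset.sum_sigma]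
  have hm : ∀ m : Fin t, (∑ x : Fin (d m),
      (if (i : ℕ) = x ∧ d l = d m then M l m else 0) * if (x : ℕ) = j ∧ d m = d k then N m k else 0) =
      if (i : ℕ) = j ∧ d l = d k then M l m * N m k else 0 := by
    intro m
    by_cases hlm : d l = d m
    · rw [Finset.sum_eq_single (⟨i, hlm ▸ i.isLt⟩ : Fin (d m))]
      · simp only [true_and, hlm, if_true]
        split_ifs <;> simp
      · intro x _ hx
        rw [if_neg, zero_mul]
        exact fun h => hx (Fin.ext h.1.symm)
      · simp
    · simp [hlm, hM l m hlm]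
  simp only [hm]
  split_ifs <;> simp

theorem lift_mem {M : Matrix (Fin t) (Fin t) K} : lift d M ∈ commutant d K := by
  rw [mem_commutant_iff_ent]
  intro l k i j hi hj
  simp only [ent, lift, Matrix.of_apply]
  split_ifs <;> first | rfl | (exfalso; omega)

theorem lead_mul {a b : Matrix (JI d) (JI d) K} (ha : a ∈ commutant d K) (hb : b ∈ commutant d K) :
    lead d (a * b) = lead d a * lead d b := by
  ext l k
  simp only [lead, Matrix.of_apply]
  rw [Matrix.mul_apply]
  simp only [Matrix.of_apply]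
  have hz : ∀ m : Fin t, d m = 0 → ent d a l 0 m 0 = 0 := fun m h => ent_eq_zero a (by omega)
  by_cases hlk : d l = d k
  · rw [if_pos hlk]
    by_cases h0 : 0 < d l
    · rw [ent, dif_pos ⟨h0, hlk ▸ h0⟩, Matrix.mul_apply, ← Finset.univ_sigma_univ, Finset.sum_sigma]
      refine Finset.sum_congr rfl fun m _ => ?_
      have hterm : ∀ x : Fin (d m), a ⟨l, ⟨0, h0⟩⟩ ⟨m, x⟩ = if (x : ℕ) = 0 then ent d a l 0 m 0 else 0 := by
        intro x
        have := ent_commutant ha l m x 0 h0 x.isLt
        rw [ent, dif_pos ⟨h0, x.isLt⟩] at this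
        rw [this]
        simp only [Nat.le_zero]
        split_ifs with hx
        · simp [hx]
        · rfl
      simp only [hterm]
      by_cases hm : 0 < d m
      · rw [Finset.sum_eq_single (⟨0, hm⟩ : Fin (d m))]
        · simp only [if_true]
          rw [show b ⟨m, ⟨0, hm⟩⟩ ⟨k, ⟨0, hlk ▸ h0⟩⟩ = ent d b m 0 k 0 by
            rw [ent, dif_pos ⟨hm, hlk ▸ h0⟩]]
          rcases lt_trichotomy (d l) (d m) with h | h | h
          · rw [ent_commutant_zero hb m k (i := 0) (by omega)]
            simp [hlk ▸ h.ne]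
          · rw [if_pos h, if_pos (h.symm.trans hlk)]
          · rw [ent_commutant_zero ha l m (i := 0) (by omega)]
            simp
        · intro x _ hx
          rw [if_neg, zero_mul]
          exact fun e => hx (Fin.ext e)
        · simp
      · rw [if_neg (show ¬ d l = d m by omega), zero_mul]
        exact Finset.sum_eq_zero fun x _ => absurd x.isLt (by omega)
    · rw [ent_eq_zero _ (by omega)]
      symm
      refine Finset.sum_eq_zero fun m _ => ?_
      rw [ent_eq_zero a (by omega)]
      simp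
  · rw [if_neg hlk]
    symm
    refine Finset.sum_eq_zero fun m _ => ?_
    split_ifs with h1 h2 <;> simp
    exact absurd (h1.trans h2) hlk

/-- Elements of the commutant with vanishing leading coefficients are nilpotent. -/
theorem isNilpotent_of_lead_eq_zero {a : Matrix (JI d) (JI d) K} (ha : a ∈ commutant d K)
    (h0 : lead d a = 0) : IsNilpotent a := by
  set D := Finset.univ.sup d with hD
  have hle : ∀ k, d k ≤ D := fun k => Finset.le_sup (Finset.mem_univ k)
  let key : JI d → ℕ := fun p => (p.2 : ℕ) * (D + 1) + (D - d p.1)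
  have hlt : ∀ p r, a p r ≠ 0 → key r < key p := by
    rintro ⟨l, i⟩ ⟨k, j⟩ hne
    rw [← ent_val a ⟨l, i⟩ ⟨k, j⟩] at hne
    simp only at hne
    rw [ent_commutant ha l k j i i.isLt j.isLt] at hne
    split_ifs at hne with hji
    · show (j : ℕ) * (D + 1) + (D - d k) < (i : ℕ) * (D + 1) + (D - d l)
      rcases Nat.lt_or_ge j i with hlt | hge
      · have := Nat.mul_le_mul_right (D + 1) (show (j : ℕ) + 1 ≤ i by omega)
        rw [add_mul, one_mul] at this
        omega
      · rw [show (i : ℕ) - j = 0 by omega] at hne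
        have h1 : ¬ (0 + d k < d l) := fun h => hne (ent_commutant_zero ha l k h)
        have h2 : d l ≠ d k := fun h => hne (by
          have := congrFun (congrFun h0 l) k
          simpa [lead, h] using this)
        have := hle k
        rw [show (j : ℕ) = i by omega]
        omega
    · exact absurd rfl hne
  have hpow : ∀ n p r, (a ^ n) p r ≠ 0 → key r + n ≤ key p := by
    intro n
    induction n with
    | zero =>
      intro p r h
      rw [pow_zero] at h
      have : p = r := by
        by_contra e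
        exact h (Matrix.one_apply_ne e)
      rw [this]; simp
    | succ n ih =>
      intro p r h
      rw [pow_succ, Matrix.mul_apply] at h
      obtain ⟨x, -, hx⟩ := Finset.exists_ne_zero_of_sum_ne_zero h
      have h1 := ih p x (left_ne_zero_of_mul hx)
      have h2 := hlt x r (right_ne_zero_of_mul hx)
      omega
  refine ⟨(D + 1) * (D + 1) + 1, Matrix.ext fun p r => ?_⟩
  by_contra hne
  have h1 := hpow _ p r hne
  have h2 := hle p.1
  have : key p < (D + 1) * (D + 1) + 1 := by
    show (p.2 : ℕ) * (D + 1) + (D - d p.1) < _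
    have := Nat.mul_le_mul_right (D + 1) (show (p.2 : ℕ) ≤ D by omega)
    rw [add_mul D 1 (D + 1), one_mul]
    omega
  omega

end CfsgLib.UnipotentJordan
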